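import Mathlib

set_option autoImplicit false

/-!
Hermitian forms (with respect to an involutive ring endomorphism `σ`) given as plain functions, and
canonical bases of their nondegenerate subspaces in characteristic two.
-/

namespace Cfsg.Agent.Lib.Char2Inv.Forms

variable {F : Type*} [Field F] {V : Type*} [AddCommGroup V] [Module F V]

/-- A `σ`-Hermitian form. -/
structure IsHerm (σ : F →+* F) (B : V → V → F) : Prop where
  add_left : ∀ u v w, B (u + v) w = B u w + B v w
  smul_left : ∀ (c : F) u v, B (c • u) v = c * B u v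
  symm : ∀ u v, B v u = σ (B u v)
  invol : ∀ x, σ (σ x) = x

namespace IsHerm

variable {σ : F →+* F} {B : V → V → F} (hB : IsHerm σ B)
include hB

theorem add_right (u v w : V) : B u (v + w) = B u v + B u w := by
  rw [hB.symm, hB.add_left, map_add, ← hB.symm v, ← hB.symm w]

theorem smul_right (c : F) (u v : V) : B u (c • v) = σ c * B u v := by
  rw [hB.symm, hB.smul_left, map_mul, ← hB.symm v]

/-- `x ↦ B x v` as a linear map. -/
def lin (v : V) : V →ₗ[F] F where
  toFun x := B x v
  map_add' x y := hB.add_left x y v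
  map_smul' c x := hB.smul_left c x v

theorem lin_apply (v x : V) : hB.lin v x = B x v := rfl

theorem zero_left (v : V) : B 0 v = 0 := by
  have := hB.smul_left 0 0 v
  simpa using this

theorem zero_right (v : V) : B v 0 = 0 := by
  rw [hB.symm, hB.zero_left, map_zero]

theorem sum_left {ι : Type*} (s : Finset ι) (f : ι → V) (v : V) :
    B (∑ i ∈ s, f i) v = ∑ i ∈ s, B (f i) v :=
  map_sum (hB.lin v) f s

theorem sum_right {ι : Type*} (s : Finset ι) (f : ι → V) (v : V) :
    B v (∑ i ∈ s, f i) = ∑ i ∈ s, B v (f i) := by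
  rw [hB.symm, hB.sum_left, map_sum]
  exact Finset.sum_congr rfl fun i _ => (hB.symm (f i) v).symm

theorem sub_left (u v w : V) : B (u - v) w = B u w - B v w :=
  map_sub (hB.lin w) u v

theorem eq_zero_symm {u v : V} (h : B u v = 0) : B v u = 0 := by
  rw [hB.symm, h, map_zero]

end IsHerm

/-- `B` has trivial radical on the subspace `W`. -/
def NondegOn (B : V → V → F) (W : Submodule F V) : Prop :=
  ∀ x ∈ W, (∀ y ∈ W, B x y = 0) → x = 0

/-- A family in `W` whose Gram matrix is the permutation matrix of `π` and which spans `W`. -/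
structure Frame (B : V → V → F) (W : Submodule F V) {ι : Type*} [Fintype ι] [DecidableEq ι]
    (π : ι → ι) (e : ι → V) : Prop where
  invol : Function.Involutive π
  mem : ∀ i, e i ∈ W
  gram : ∀ i j, B (e i) (e j) = if j = π i then 1 else 0
  expand : ∀ x ∈ W, x = ∑ i, B x (e (π i)) • e i

namespace Frame

variable {σ : F →+* F} {B : V → V → F} {W : Submodule F V} {ι : Type*} [Fintype ι] [DecidableEq ι]
  {π : ι → ι} {e : ι → V}

theorem coeff (hB : IsHerm σ B) (h : Frame B W π e) (c : ι → F) (j : ι) :
    B (∑ i, c i • e i) (e (π j)) = c j := by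
  rw [hB.sum_left, Finset.sum_eq_single j]
  · rw [hB.smul_left, h.gram, if_pos rfl, mul_one]
  · intro i _ hi
    rw [hB.smul_left, h.gram, if_neg (fun e => hi (h.invol.injective e).symm), mul_zero]
  · simp

theorem linearIndependent (hB : IsHerm σ B) (h : Frame B W π e) : LinearIndependent F e := by
  rw [Fintype.linearIndependent_iff]
  intro c hc j
  rw [← h.coeff hB c j, hc, hB.zero_left]

theorem span_eq (h : Frame B W π e) : Submodule.span F (Set.range e) = W := by
  apply le_antisymm
  · rw [Submodule.span_le]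
    rintro _ ⟨i, rfl⟩
    exact h.mem i
  · intro x hx
    rw [h.expand x hx]
    exact Submodule.sum_mem _ fun i _ =>
      Submodule.smul_mem _ _ (Submodule.subset_span ⟨i, rfl⟩)

theorem finrank_eq (hB : IsHerm σ B) (h : Frame B W π e) :
    Module.finrank F W = Fintype.card ι := by
  rw [← h.span_eq]
  exact finrank_span_eq_card (h.linearIndependent hB)

/-- A frame of the whole space as a basis. -/
noncomputable def basis (hB : IsHerm σ B) (h : Frame B ⊤ π e) : Module.Basis ι F V :=
  Module.Basis.mk (h.linearIndependent hB) (le_of_eq h.span_eq.symm)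

theorem basis_apply (hB : IsHerm σ B) (h : Frame B ⊤ π e) (i : ι) : h.basis hB i = e i :=
  Module.Basis.mk_apply _ _ i

/-- Two frames of the whole space with the same shape differ by an isometry. -/
theorem exists_isometry {e' : ι → V} (hB : IsHerm σ B) (h : Frame B ⊤ π e)
    (h' : Frame B ⊤ π e') :
    ∃ g : V ≃ₗ[F] V, (∀ i, g (e i) = e' i) ∧ ∀ x y, B (g x) (g y) = B x y := by
  let g := (h.basis hB).equiv (h'.basis hB) (Equiv.refl ι)
  have hg : ∀ i, g (e i) = e' i := by
    intro i
    have := Module.Basis.equiv_apply (b := h.basis hB) i (h'.basis hB) (Equiv.refl ι)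
    rwa [h.basis_apply, h'.basis_apply] at this
  refine ⟨g, hg, fun x y => ?_⟩
  have key : ∀ i j, B (g (e i)) (g (e j)) = B (e i) (e j) := by
    intro i j
    rw [hg, hg, h.gram, h'.gram]
  have key2 : ∀ i y, B (g (e i)) (g y) = B (e i) y := by
    intro i y
    rw [h.expand y trivial, map_sum, hB.sum_right, hB.sum_right]
    refine Finset.sum_congr rfl fun j _ => ?_
    rw [map_smul, hB.smul_right, hB.smul_right, key]
  rw [h.expand x trivial, map_sum, hB.sum_left, hB.sum_left]
  refine Finset.sum_congr rfl fun i _ => ?_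
  rw [map_smul, hB.smul_left, hB.smul_left, key2]

end Frame

variable [FiniteDimensional F V] {σ : F →+* F} {B : V → V → F}

/-- Splitting off a finite frame: the orthogonal complement is nondegenerate. -/
theorem Frame.complement {W X : Submodule F V} {ι : Type*} [Fintype ι] [DecidableEq ι]
    {π : ι → ι} {e : ι → V} (hB : IsHerm σ B) (h : Frame B X π e) (hXW : X ≤ W)
    (hW : NondegOn B W) :
    ∃ Y : Submodule F V, (∀ y, y ∈ Y ↔ y ∈ W ∧ ∀ i, B y (e i) = 0) ∧ NondegOn B Y ∧
      ∀ x ∈ W, x - ∑ i, B x (e (π i)) • e i ∈ Y := by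
  let Y := W ⊓ ⨅ i, LinearMap.ker (hB.lin (e i))
  have hmem : ∀ y, y ∈ Y ↔ y ∈ W ∧ ∀ i, B y (e i) = 0 := by
    intro y
    simp [Y, hB.lin_apply]
  have hproj : ∀ x ∈ W, x - ∑ i, B x (e (π i)) • e i ∈ Y := by
    intro x hx
    refine (hmem _).2 ⟨W.sub_mem hx (W.sum_mem fun i _ => W.smul_mem _ (hXW (h.mem i))), fun j => ?_⟩
    have := h.coeff hB (fun i => B x (e (π i))) (π j)
    rw [h.invol j] at this
    rw [hB.sub_left, this, sub_self]
  refine ⟨Y, hmem, ?_, hproj⟩
  intro x hx hxy
  refine hW x ((hmem x).1 hx).1 fun y hy => ?_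
  have h1 := hxy _ (hproj y hy)
  have h2 : B x (∑ i, B y (e (π i)) • e i) = 0 := by
    rw [hB.sum_right]
    refine Finset.sum_eq_zero fun i _ => ?_
    rw [hB.smul_right, ((hmem x).1 hx).2 i, mul_zero]
  have h3 := hB.add_right x (y - ∑ i, B y (e (π i)) • e i) (∑ i, B y (e (π i)) • e i)
  rw [sub_add_cancel, h1, h2, add_zero] at h3
  exact h3

theorem exists_pair (hB : IsHerm σ B) (W : Submodule F V) (hW : NondegOn B W) {x : V} (hx : x ∈ W)
    (hx0 : x ≠ 0) : ∃ y ∈ W, B x y = 1 ∧ B y x = 1 := by
  by_contra hcon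
  apply hx0
  refine hW x hx fun y hy => ?_
  by_contra hne
  apply hcon
  refine ⟨σ (B x y)⁻¹ • y, W.smul_mem _ hy, ?_, ?_⟩
  · rw [hB.smul_right, hB.invol, inv_mul_cancel₀ hne]
  · rw [hB.smul_left, hB.symm x y, ← map_mul, inv_mul_cancel₀ hne, map_one]

/-- A nondegenerate alternating form has a symplectic basis. -/
theorem exists_symplectic_frame (hB : IsHerm σ B) (W : Submodule F V) (hW : NondegOn B W)
    (halt : ∀ x ∈ W, B x x = 0) :
    ∃ (k : ℕ) (e : Fin k ⊕ Fin k → V), Frame B W Sum.swap e := by
  induction h : Module.finrank F W using Nat.strong_induction_on generalizing W with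
  | _ n ih =>
    subst h
    by_cases hbot : W = ⊥
    · refine ⟨0, Sum.elim Fin.elim0 Fin.elim0, ⟨Sum.swap_swap, ?_, ?_, ?_⟩⟩
      · rintro (i | i) <;> exact i.elim0
      · rintro (i | i) <;> exact i.elim0
      · intro x hx
        simp [(Submodule.mem_bot F).1 (hbot ▸ hx)]
    · obtain ⟨x, hx, hx0⟩ := Submodule.exists_mem_ne_zero_of_ne_bot hbot
      obtain ⟨y, hy, hxy, hyx⟩ := exists_pair hB W hW hx hx0
      let e0 : Fin 1 ⊕ Fin 1 → V := Sum.elim (fun _ => x) (fun _ => y)
      have hg0 : ∀ i j, B (e0 i) (e0 j) = if j = Sum.swap i then 1 else 0 := by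
        rintro (i | i) (j | j) <;> simp [e0, hxy, hyx, halt x hx, halt y hy, Subsingleton.elim i j]
      have hf0 : Frame B (Submodule.span F (Set.range e0)) Sum.swap e0 := by
        refine ⟨Sum.swap_swap, fun i => Submodule.subset_span ⟨i, rfl⟩, hg0, fun z hz => ?_⟩
        obtain ⟨c, rfl⟩ := (Submodule.mem_span_range_iff_exists_fun F).1 hz
        refine Finset.sum_congr rfl fun j _ => ?_
        congr 1
        rw [hB.sum_left, Finset.sum_eq_single j]
        · rw [hB.smul_left, hg0, if_pos rfl, mul_one]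
        · intro i _ hi
          rw [hB.smul_left, hg0,
            if_neg (fun e => hi (Function.Involutive.injective Sum.swap_swap e).symm), mul_zero]
        · simp
      have hle : Submodule.span F (Set.range e0) ≤ W := by
        rw [Submodule.span_le]
        rintro _ ⟨(i | i), rfl⟩ <;> assumption
      obtain ⟨Y, hmem, hYnd, hproj⟩ := hf0.complement hB hle hW
      have hYW : Y ≤ W := fun z hz => ((hmem z).1 hz).1
      have hlt : Y < W := by
        refine lt_of_le_of_ne hYW fun e => ?_
        have := ((hmem x).1 (e ▸ hx)).2 (Sum.inr 0)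
        simp [e0, hxy] at this
      obtain ⟨k, e, he⟩ := ih _ (Submodule.finrank_lt_finrank_of_lt hlt) Y hYnd
        (fun z hz => halt z (hYW hz)) rfl
      let E : Fin (k + 1) ⊕ Fin (k + 1) → V :=
        Sum.elim (Fin.cons x (fun i => e (Sum.inl i))) (Fin.cons y (fun i => e (Sum.inr i)))
      have ox : ∀ i, B (e i) x = 0 := fun i => ((hmem _).1 (he.mem i)).2 (Sum.inl 0)
      have oy : ∀ i, B (e i) y = 0 := fun i => ((hmem _).1 (he.mem i)).2 (Sum.inr 0)
      have ox' : ∀ i, B x (e i) = 0 := fun i => hB.eq_zero_symm (ox i)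
      have oy' : ∀ i, B y (e i) = 0 := fun i => hB.eq_zero_symm (oy i)
      refine ⟨k + 1, E, ⟨Sum.swap_swap, ?_, ?_, ?_⟩⟩
      · rintro (i | i) <;> cases i using Fin.cases <;>
          simp [E, hx, hy, hYW (he.mem _)]
      · rintro (i | i) (j | j) <;> cases i using Fin.cases <;> cases j using Fin.cases <;>
          simp [E, ox, oy, ox', oy', hxy, hyx, halt x hx, halt y hy, he.gram, Fin.succ_ne_zero,
            (Fin.succ_ne_zero _).symm]
      · intro z hz
        have h1 := he.expand _ (hproj z hz)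
        set p := ∑ i, B z (e0 (Sum.swap i)) • e0 i with hp
        have hp' : p = B z y • x + B z x • y := by
          simp [hp, e0, Fintype.sum_sum_type]
        have hBe : ∀ i, B (z - p) (e i) = B z (e i) := by
          intro i
          rw [hB.sub_left, hp', hB.add_left, hB.smul_left, hB.smul_left, ox', oy']
          ring
        simp only [hBe] at h1
        conv_lhs => rw [← sub_add_cancel z p, h1, hp']
        simp only [Fintype.sum_sum_type, E, Sum.swap_inl, Sum.swap_inr, Sum.elim_inl,
          Sum.elim_inr, Fin.sum_univ_succ, Fin.cons_zero, Fin.cons_succ]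
        abel

/-- In characteristic two a nondegenerate non-alternating form has an orthonormal basis. -/
theorem exists_orthonormal_frame [CharP F 2] (hB : IsHerm σ B)
    (hnorm : ∀ c : F, σ c = c → ∃ d, d * σ d = c) (W : Submodule F V) (hW : NondegOn B W)
    (hna : W ≠ ⊥ → ∃ x ∈ W, B x x ≠ 0) :
    ∃ (k : ℕ) (e : Fin k → V), Frame B W id e := by
  induction h : Module.finrank F W using Nat.strong_induction_on generalizing W with
  | _ n ih =>
    subst h
    by_cases hbot : W = ⊥
    · refine ⟨0, Fin.elim0, ⟨fun _ => rfl, fun i => i.elim0, fun i => i.elim0, ?_⟩⟩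
      intro x hx
      simp [(Submodule.mem_bot F).1 (hbot ▸ hx)]
    · have norm1 : ∃ v ∈ W, B v v = 1 := by
        obtain ⟨x, hx, hx0⟩ := hna hbot
        obtain ⟨d, hd⟩ := hnorm (B x x)⁻¹ (by rw [map_inv₀, ← hB.symm x x])
        refine ⟨d • x, W.smul_mem _ hx, ?_⟩
        rw [hB.smul_left, hB.smul_right, ← mul_assoc, hd, inv_mul_cancel₀ hx0]
      obtain ⟨v₀, hv₀, hv1⟩ := norm1
      have two : (2 : F) = 0 := CharP.cast_eq_zero F 2
      -- split off a vector of norm one whose complement is again non-alternating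
      suffices hgood : ∃ v ∈ W, B v v = 1 ∧
          ((∀ z ∈ W, B z v = 0 → z = 0) ∨ ∃ z ∈ W, B z v = 0 ∧ B z z ≠ 0) by
        obtain ⟨v, hv, hvv, hz⟩ := hgood
        let e0 : Fin 1 → V := fun _ => v
        have hg0 : ∀ i j, B (e0 i) (e0 j) = if j = id i then 1 else 0 := by
          intro i j; simp [e0, hvv, Subsingleton.elim i j]
        have hf0 : Frame B (Submodule.span F (Set.range e0)) id e0 := by
          refine ⟨fun _ => rfl, fun i => Submodule.subset_span ⟨i, rfl⟩, hg0, fun z hz => ?_⟩
          obtain ⟨c, rfl⟩ := (Submodule.mem_span_range_iff_exists_fun F).1 hz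
          simp [e0, hB.smul_left, hvv]
        have hle : Submodule.span F (Set.range e0) ≤ W := by
          rw [Submodule.span_le]; rintro _ ⟨i, rfl⟩; exact hv
        obtain ⟨Y, hmem, hYnd, hproj⟩ := hf0.complement hB hle hW
        have hYW : Y ≤ W := fun z hz => ((hmem z).1 hz).1
        have hlt : Y < W := by
          refine lt_of_le_of_ne hYW fun e => ?_
          have := ((hmem v).1 (e ▸ hv)).2 0
          simp [e0, hvv] at this
        obtain ⟨k, e, he⟩ := ih _ (Submodule.finrank_lt_finrank_of_lt hlt) Y hYnd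
          (fun hne => by
            rcases hz with h0 | ⟨z, hzW, hzv, hzz⟩
            · exact absurd ((Submodule.eq_bot_iff Y).2 fun z hz =>
                h0 z (hYW hz) (((hmem z).1 hz).2 0)) hne
            · exact ⟨z, (hmem z).2 ⟨hzW, fun _ => hzv⟩, hzz⟩) rfl
        have ov : ∀ i, B (e i) v = 0 := fun i => ((hmem _).1 (he.mem i)).2 0
        have ov' : ∀ i, B v (e i) = 0 := fun i => hB.eq_zero_symm (ov i)
        refine ⟨k + 1, Fin.cons v e, ⟨fun _ => rfl, ?_, ?_, ?_⟩⟩
        · intro i; cases i using Fin.cases <;> simp [hv, hYW (he.mem _)]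
        · intro i j; cases i using Fin.cases <;> cases j using Fin.cases <;>
            simp [ov, ov', hvv, he.gram, Fin.succ_ne_zero, (Fin.succ_ne_zero _).symm]
        · intro z hz
          have h1 := he.expand _ (hproj z hz)
          have hp : (∑ i, B z (e0 (id i)) • e0 i) = B z v • v := by simp [e0]
          have hBe : ∀ i, B (z - B z v • v) (e i) = B z (e i) := by
            intro i
            rw [hB.sub_left, hB.smul_left, ov', mul_zero, sub_zero]
          rw [hp] at h1
          conv_lhs => rw [← sub_add_cancel z (B z v • v), h1]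
          simp only [id_eq, Fin.sum_univ_succ, Fin.cons_zero, Fin.cons_succ, hBe]
          abel
      by_cases hz : ∃ z ∈ W, B z v₀ = 0 ∧ B z z ≠ 0
      · exact ⟨v₀, hv₀, hv1, Or.inr hz⟩
      by_cases hY : ∀ z ∈ W, B z v₀ = 0 → z = 0
      · exact ⟨v₀, hv₀, hv1, Or.inl hY⟩
      push Not at hz hY
      obtain ⟨e₁, he₁, he₁v, he₁0⟩ := hY
      obtain ⟨f, hf, hef, hfe⟩ := exists_pair hB W hW he₁ he₁0
      have hve : B v₀ e₁ = 0 := hB.eq_zero_symm he₁v
      have hee : B e₁ e₁ = 0 := hz e₁ he₁ he₁v
      let f' := f - B f v₀ • v₀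
      have hf' : f' ∈ W := W.sub_mem hf (W.smul_mem _ hv₀)
      have hf'v : B f' v₀ = 0 := by simp [f', hB.sub_left, hB.smul_left, hv1]
      have hf'e : B f' e₁ = 1 := by simp [f', hB.sub_left, hB.smul_left, hve, hfe]
      have hef' : B e₁ f' = 1 := by rw [hB.symm, hf'e, map_one]
      have hff : B f' f' = 0 := hz f' hf' hf'v
      have hvf : B v₀ f' = 0 := hB.eq_zero_symm hf'v
      refine ⟨v₀ + e₁, W.add_mem hv₀ he₁, ?_, Or.inr ⟨v₀ + f', W.add_mem hv₀ hf', ?_, ?_⟩⟩
      · simp [hB.add_left, hB.add_right, hv1, hve, he₁v, hee]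
      · simp [hB.add_left, hB.add_right, hv1, hve, hf'v, hf'e]
        linear_combination two
      · simp [hB.add_left, hB.add_right, hv1, hvf, hf'v, hff]

end Cfsg.Agent.Lib.Char2Inv.Forms
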