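import Mathlib

set_option autoImplicit false

/-!
Square-zero maps of equal rank are conjugate by a map of determinant one over a perfect field of
characteristic two.
-/

namespace Cfsg.Agent.Lib.Char2Inv.Linear

variable {F : Type*} [Field F] {V : Type*} [AddCommGroup V] [Module F V] [FiniteDimensional F V]

/-- Splitting data for a square-zero map. -/
theorem exists_split (N : V →ₗ[F] V) (hN : ∀ x, N (N x) = 0) :
    ∃ (r z : ℕ) (e : (((Fin r → F) × (Fin r → F)) × (Fin z → F)) ≃ₗ[F] V),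
      r = Module.finrank F (LinearMap.range N) ∧ ∀ a b c, N (e ((a, b), c)) = e ((0, a), 0) := by
  obtain ⟨W, hW⟩ := Submodule.exists_isCompl (LinearMap.ker N)
  have hle : LinearMap.range N ≤ LinearMap.ker N := by
    rintro _ ⟨x, rfl⟩
    exact hN x
  obtain ⟨Z₀, hZ₀⟩ := Submodule.exists_isCompl (LinearMap.range N)
  let Z := Z₀ ⊓ LinearMap.ker N
  let bW := Module.finBasis F W
  let bZ := Module.finBasis F Z
  let p : (Fin (Module.finrank F W) → F) →ₗ[F] V := W.subtype.comp bW.equivFun.symm.toLinearMap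
  let s : (Fin (Module.finrank F Z) → F) →ₗ[F] V := Z.subtype.comp bZ.equivFun.symm.toLinearMap
  have hp : ∀ a, p a ∈ W := fun a => (bW.equivFun.symm a).2
  have hs : ∀ a, s a ∈ Z := fun a => (bZ.equivFun.symm a).2
  have hp0 : ∀ a, p a = 0 → a = 0 := by
    intro a h
    exact bW.equivFun.symm.injective ((Subtype.ext h).trans (map_zero _).symm)
  have hs0 : ∀ a, s a = 0 → a = 0 := by
    intro a h
    exact bZ.equivFun.symm.injective ((Subtype.ext h).trans (map_zero _).symm)
  have hWker : ∀ x ∈ W, N x = 0 → x = 0 := fun x hx h =>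
    (Submodule.mem_bot F).1 (hW.inf_eq_bot ▸ ⟨LinearMap.mem_ker.2 h, hx⟩)
  have hNs : ∀ a, N (s a) = 0 := fun a => (hs a).2
  let e₀ : ((Fin _ → F) × (Fin _ → F)) × (Fin _ → F) →ₗ[F] V :=
    (p.coprod (N.comp p)).coprod s
  have hinj : Function.Injective e₀ := by
    rw [injective_iff_map_eq_zero]
    rintro ⟨⟨a, b⟩, c⟩ h
    simp only [e₀, LinearMap.coprod_apply, LinearMap.comp_apply] at h
    have h1 := congrArg N h
    simp only [map_add, hN, hNs, add_zero, map_zero] at h1
    have ha := hp0 a (hWker _ (hp a) h1)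
    subst ha
    rw [map_zero, zero_add] at h
    have h2 : s c ∈ LinearMap.range N :=
      ⟨-p b, by rw [map_neg, neg_eq_iff_eq_neg]; exact eq_neg_of_add_eq_zero_left h⟩
    have hc : s c = 0 :=
      (Submodule.mem_bot F).1 (hZ₀.inf_eq_bot ▸ ⟨h2, (hs c).1⟩)
    rw [hc, add_zero] at h
    simp [hp0 b (hWker _ (hp b) h), hs0 c hc]
  have hsurj : Function.Surjective e₀ := by
    intro x
    have hx : x ∈ LinearMap.ker N ⊔ W := by rw [hW.sup_eq_top]; trivial
    obtain ⟨k, hk, a, ha, rfl⟩ := Submodule.mem_sup.1 hx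
    have hk' : k ∈ LinearMap.range N ⊔ Z₀ := by rw [hZ₀.sup_eq_top]; trivial
    obtain ⟨u, ⟨y, rfl⟩, c, hc, rfl⟩ := Submodule.mem_sup.1 hk'
    have hcZ : c ∈ Z := ⟨hc, by
      have := LinearMap.mem_ker.1 hk
      simpa [map_add, hN] using this⟩
    have hy : y ∈ LinearMap.ker N ⊔ W := by rw [hW.sup_eq_top]; trivial
    obtain ⟨k', hkb, b, hb, rfl⟩ := Submodule.mem_sup.1 hy
    refine ⟨((bW.equivFun ⟨a, ha⟩, bW.equivFun ⟨b, hb⟩), bZ.equivFun ⟨c, hcZ⟩), ?_⟩
    simp [e₀, p, s, (LinearMap.mem_ker.1 hkb : N k' = 0), add_assoc, add_comm, add_left_comm]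
  refine ⟨_, _, LinearEquiv.ofBijective e₀ ⟨hinj, hsurj⟩, ?_, fun a b c => ?_⟩
  · have hcp : Function.Injective (N.domRestrict W) := by
      rw [injective_iff_map_eq_zero]
      exact fun x h => Subtype.ext (hWker _ x.2 h)
    have hr : LinearMap.range (N.domRestrict W) = LinearMap.range N := by
      apply le_antisymm
      · rintro _ ⟨x, rfl⟩
        exact ⟨_, rfl⟩
      · rintro _ ⟨x, rfl⟩
        have hx : x ∈ LinearMap.ker N ⊔ W := by rw [hW.sup_eq_top]; trivial
        obtain ⟨k, hk, a, ha, rfl⟩ := Submodule.mem_sup.1 hx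
        exact ⟨⟨a, ha⟩, by simp [LinearMap.mem_ker.1 hk]⟩
    rw [← hr, LinearMap.finrank_range_of_inj hcp]
  · show N (e₀ ((a, b), c)) = e₀ ((0, a), 0)
    simp [e₀, hN, hNs]

/-- Conjugacy by an element of determinant one. -/
theorem exists_conj [CharP F 2] [Finite F] (N N' : V →ₗ[F] V) (hN : ∀ x, N (N x) = 0)
    (hN' : ∀ x, N' (N' x) = 0)
    (hr : Module.finrank F (LinearMap.range N) = Module.finrank F (LinearMap.range N'))
    (hpos : 0 < Module.finrank F (LinearMap.range N)) :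
    ∃ g : V ≃ₗ[F] V, LinearMap.det g.toLinearMap = 1 ∧ ∀ x, g (N x) = N' (g x) := by
  obtain ⟨r, z, e, hre, he⟩ := exists_split N hN
  obtain ⟨r', z', e', hre', he'⟩ := exists_split N' hN'
  obtain rfl : r = r' := by rw [hre, hre', hr]
  have hz : z = z' := by
    have := e.finrank_eq.trans e'.finrank_eq.symm
    simp [Module.finrank_prod] at this
    omega
  subst hz
  let g₀ := e.symm.trans e'
  set d := LinearMap.det g₀.toLinearMap with hd
  have hd0 : d ≠ 0 := g₀.isUnit_det'.ne_zero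
  obtain ⟨c, hc⟩ := FiniteField.isSquare_of_char_two (ringChar.eq_iff.2 inferInstance) d⁻¹
  classical
  let c' : Fin r → F := fun i => if i = ⟨0, hre ▸ hpos⟩ then c else 1
  let D : (Fin r → F) →ₗ[F] (Fin r → F) := Matrix.toLin' (Matrix.diagonal c')
  have hD : LinearMap.det D = c := by
    rw [LinearMap.det_toLin', Matrix.det_diagonal]
    simp [c']
  let M : ((Fin r → F) × (Fin r → F)) × (Fin z → F) →ₗ[F] _ :=
    (D.prodMap D).prodMap LinearMap.id
  have hM : LinearMap.det M = d⁻¹ := by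
    rw [LinearMap.det_prodMap, LinearMap.det_prodMap, LinearMap.det_id, mul_one, hD, hc]
  let h : V →ₗ[F] V := e'.toLinearMap.comp (M.comp e'.symm.toLinearMap)
  let gL : V →ₗ[F] V := h.comp g₀.toLinearMap
  have hdet : LinearMap.det gL = 1 := by
    rw [LinearMap.det_comp, ← hd, show LinearMap.det h = d⁻¹ by
      rw [← hM]; exact LinearMap.det_conj M e', inv_mul_cancel₀ hd0]
  let g : V ≃ₗ[F] V := LinearEquiv.ofIsUnitDet (f := gL) (v := Module.finBasis F V)
    (v' := Module.finBasis F V) (by rw [LinearMap.det_toMatrix, hdet]; exact isUnit_one)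
  have hg : ∀ x, g x = gL x := fun x => rfl
  refine ⟨g, hdet, fun x => ?_⟩
  rw [hg, hg]
  obtain ⟨⟨⟨a, b⟩, c⟩, rfl⟩ := e.surjective x
  rw [he]
  simp [gL, g₀, h, M, he']

end Cfsg.Agent.Lib.Char2Inv.Linear
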