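import Cfsg.Agent.Lib.Char2Inv.Forms

set_option autoImplicit false

/-!
Normal forms of square-zero self-adjoint maps (`N = a - 1` for an involution `a`) with respect to a
nondegenerate Hermitian form in characteristic two, and the resulting conjugacy statement.
-/

namespace Cfsg.Agent.Lib.Char2Inv.Normal

open Cfsg.Agent.Lib.Char2Inv.Forms

variable {F : Type*} [Field F] {V : Type*} [AddCommGroup V] [Module F V]

/-- `N` squares to zero and is self-adjoint. -/
structure IsSqZero (B : V → V → F) (N : V →ₗ[F] V) : Prop where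
  sq : ∀ x, N (N x) = 0
  adj : ∀ u v, B (N u) v = B u (N v)

/-- The form `(u, v) ↦ B u (N v)`. -/
def twist (B : V → V → F) (N : V →ₗ[F] V) : V → V → F := fun u v => B u (N v)

variable {σ : F →+* F} {B : V → V → F} {N : V →ₗ[F] V}

theorem twist_isHerm (hB : IsHerm σ B) (hN : IsSqZero B N) : IsHerm σ (twist B N) where
  add_left u v w := hB.add_left u v _
  smul_left c u v := hB.smul_left c u _
  symm u v := by
    show B v (N u) = σ (B u (N v))
    rw [← hN.adj u v, ← hB.symm]
  invol := hB.invol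

theorem N_N_zero (hB : IsHerm σ B) (hN : IsSqZero B N) (u v : V) : B (N u) (N v) = 0 := by
  rw [hN.adj, hN.sq, hB.zero_right]

/-- A twisted frame of a complement of `ker N`, in the form in which it is used. -/
theorem exists_complement (hB : IsHerm σ B) (hN : IsSqZero B N) (hnd : NondegOn B (⊤ : Submodule F V)) :
    ∃ W : Submodule F V, NondegOn (twist B N) W ∧
      (∀ x, ∃ z ∈ W, N x = N z ∧ ∀ v, twist B N x v = twist B N z v ∧
        twist B N x x = twist B N z z) := by
  obtain ⟨W, hW⟩ := Submodule.exists_isCompl (LinearMap.ker N)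
  have hdec : ∀ x, ∃ z ∈ W, N (x - z) = 0 := by
    intro x
    have hx : x ∈ LinearMap.ker N ⊔ W := by rw [hW.sup_eq_top]; trivial
    obtain ⟨k, hk, z, hz, rfl⟩ := Submodule.mem_sup.1 hx
    exact ⟨z, hz, by simpa using LinearMap.mem_ker.1 hk⟩
  refine ⟨W, ?_, fun x => ?_⟩
  · intro x hx hxy
    have h0 : N x = 0 := by
      refine hnd _ trivial fun v _ => ?_
      obtain ⟨z, hz, hvz⟩ := hdec v
      have := hxy z hz
      rw [map_sub, sub_eq_zero] at hvz
      rw [hN.adj, hvz]
      exact this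
    exact (Submodule.mem_bot F).1 (hW.inf_eq_bot ▸ ⟨LinearMap.mem_ker.2 h0, hx⟩)
  · obtain ⟨z, hz, hxz⟩ := hdec x
    rw [map_sub, sub_eq_zero] at hxz
    have key : ∀ v, twist B N x v = twist B N z v := fun v => by
      show B x (N v) = B z (N v)
      rw [← hN.adj, hxz, hN.adj]
    refine ⟨z, hz, hxz, fun v => ⟨key v, ?_⟩⟩
    rw [key]
    show B z (N x) = B z (N z)
    rw [hxz]

/-- Lifts of a twisted frame: `B (w i) (N (w j))` is the Gram matrix of `π` and the `N (w i)` span
the image of `N`. -/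
structure Lift (B : V → V → F) (N : V →ₗ[F] V) {ι : Type*} [Fintype ι] [DecidableEq ι]
    (π : ι → ι) (w : ι → V) : Prop where
  invol : Function.Involutive π
  gram : ∀ i j, B (w i) (N (w j)) = if j = π i then 1 else 0
  span : ∀ x, N x = ∑ i, B x (N (w (π i))) • N (w i)

theorem lift_of_frame (hB : IsHerm σ B) (hN : IsSqZero B N) {W : Submodule F V}
    (hW : ∀ x, ∃ z ∈ W, N x = N z ∧ ∀ v, twist B N x v = twist B N z v ∧
        twist B N x x = twist B N z z)
    {ι : Type*} [Fintype ι] [DecidableEq ι] {π : ι → ι} {w : ι → V}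
    (h : Frame (twist B N) W π w) : Lift B N π w := by
  refine ⟨h.invol, h.gram, fun x => ?_⟩
  obtain ⟨z, hz, hxz, hv⟩ := hW x
  rw [hxz]
  conv_lhs => rw [h.expand z hz]
  rw [map_sum]
  refine Finset.sum_congr rfl fun i _ => ?_
  rw [map_smul, ← (hv _).1]
  rfl

namespace Lift

variable {ι : Type*} [Fintype ι] [DecidableEq ι] {π : ι → ι} {w : ι → V}

theorem gram' (hN : IsSqZero B N) (h : Lift B N π w) (i j : ι) :
    B (N (w i)) (w j) = if j = π i then 1 else 0 := by
  rw [hN.adj, h.gram]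

theorem congr (hB : IsHerm σ B) (hN : IsSqZero B N) (h : Lift B N π w) {w' : ι → V}
    (he : ∀ i, N (w' i) = N (w i)) : Lift B N π w' := by
  refine ⟨h.invol, fun i j => ?_, fun x => ?_⟩
  · rw [he, ← hN.adj, he, hN.adj, h.gram]
  · simp only [he]
    exact h.span x

/-- Changing lifts by elements of the image of `N`. -/
theorem shift_gram (hB : IsHerm σ B) (hN : IsSqZero B N) (h : Lift B N π w) (c : ι → ι → F)
    (i j : ι) :
    B (w i + ∑ k, c i k • N (w (π k))) (w j + ∑ k, c j k • N (w (π k))) =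
      B (w i) (w j) + c i j + σ (c j i) := by
  have hpi : ∀ k j : ι, B (N (w (π k))) (w j) = if j = k then 1 else 0 := by
    intro k j
    rw [h.gram' hN, h.invol]
  have h1 : ∀ (i j : ι), B (∑ k, c i k • N (w (π k))) (w j) = c i j := by
    intro i j
    rw [hB.sum_left, Finset.sum_eq_single j]
    · rw [hB.smul_left, hpi, if_pos rfl, mul_one]
    · intro k _ hk
      rw [hB.smul_left, hpi, if_neg (Ne.symm hk), mul_zero]
    · simp
  have h2 : B (∑ k, c i k • N (w (π k))) (∑ k, c j k • N (w (π k))) = 0 := by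
    rw [hB.sum_left]
    refine Finset.sum_eq_zero fun k _ => ?_
    rw [hB.smul_left, hB.sum_right, Finset.sum_eq_zero, mul_zero]
    intro l _
    rw [hB.smul_right, N_N_zero hB hN, mul_zero]
  rw [hB.add_left, hB.add_right, hB.add_right, h2, h1, add_zero,
    hB.symm (∑ k, c j k • N (w (π k))) (w i), h1]
  ring

/-- Lifts can be made mutually orthogonal as soon as their norms are traces. -/
theorem exists_orth [CharP F 2] (hB : IsHerm σ B) (hN : IsSqZero B N) (h : Lift B N π w)
    (t : ι → F) (ht : ∀ i, t i + σ (t i) = B (w i) (w i)) :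
    ∃ w' : ι → V, Lift B N π w' ∧ ∀ i j, B (w' i) (w' j) = 0 := by
  let e := Fintype.equivFin ι
  let c : ι → ι → F := fun i j =>
    if e i < e j then B (w i) (w j) else if i = j then t i else 0
  refine ⟨fun i => w i + ∑ k, c i k • N (w (π k)), h.congr hB hN (fun i => ?_), fun i j => ?_⟩
  · simp [hN.sq]
  · rw [h.shift_gram hB hN]
    rcases lt_trichotomy (e i) (e j) with hlt | heq | hgt
    · have hne : i ≠ j := fun he => by simp [he] at hlt
      have : ¬ e j < e i := not_lt.2 hlt.le
      simp [c, hlt, this, hne.symm, CharTwo.add_self_eq_zero]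
    · have hij : i = j := e.injective heq
      subst hij
      simp [c, add_assoc, ht, CharTwo.add_self_eq_zero]
    · have hne : i ≠ j := fun he => by simp [he] at hgt
      have : ¬ e i < e j := not_lt.2 hgt.le
      simp [c, hgt, this, hne, ← hB.symm, CharTwo.add_self_eq_zero]

end Lift

/-- The index involution of a normal form. -/
def shape {ι κ : Type*} (π : ι → ι) (ρ : κ → κ) : (ι ⊕ ι) ⊕ κ → (ι ⊕ ι) ⊕ κ :=
  Sum.map (Sum.elim (fun i => Sum.inr (π i)) (fun i => Sum.inl (π i))) ρ

/-- The basis vectors of a normal form. -/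
def family (N : V →ₗ[F] V) {ι κ : Type*} (w : ι → V) (y : κ → V) : (ι ⊕ ι) ⊕ κ → V :=
  Sum.elim (Sum.elim w (fun i => N (w i))) y

/-- A normal form for `N`. -/
structure NF (B : V → V → F) (N : V →ₗ[F] V) {ι κ : Type*} [Fintype ι] [DecidableEq ι]
    [Fintype κ] [DecidableEq κ] (π : ι → ι) (ρ : κ → κ) (w : ι → V) (y : κ → V) : Prop where
  frame : Frame B ⊤ (shape π ρ) (family N w y)
  ker : ∀ k, N (y k) = 0

/-- The fixed part: the orthogonal complement of the lifts and their images. -/
theorem exists_fixed_part [FiniteDimensional F V] (hB : IsHerm σ B) (hN : IsSqZero B N)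
    (hnd : NondegOn B (⊤ : Submodule F V)) {ι : Type*} [Fintype ι] [DecidableEq ι] {π : ι → ι}
    {w : ι → V} (h : Lift B N π w) (ho : ∀ i j, B (w i) (w j) = 0) :
    ∃ Y : Submodule F V, NondegOn B Y ∧ (∀ y ∈ Y, N y = 0) ∧
      (∀ y, y ∈ Y ↔ ∀ i, B y (w i) = 0 ∧ B y (N (w i)) = 0) ∧
      ∀ (κ : Type) [Fintype κ] [DecidableEq κ] (ρ : κ → κ) (y : κ → V),
        Frame B Y ρ y → NF B N π ρ w y := by
  let π₁ : ι ⊕ ι → ι ⊕ ι := Sum.elim (fun i => Sum.inr (π i)) (fun i => Sum.inl (π i))
  let f : ι ⊕ ι → V := Sum.elim w (fun i => N (w i))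
  have hπ₁ : Function.Involutive π₁ := by
    rintro (i | i) <;> simp [π₁, h.invol i]
  have hg : ∀ i j, B (f i) (f j) = if j = π₁ i then 1 else 0 := by
    rintro (i | i) (j | j) <;>
      simp [f, π₁, ho, h.gram, h.gram' hN, N_N_zero hB hN]
  have hf : Frame B (Submodule.span F (Set.range f)) π₁ f := by
    refine ⟨hπ₁, fun i => Submodule.subset_span ⟨i, rfl⟩, hg, fun z hz => ?_⟩
    obtain ⟨c, rfl⟩ := (Submodule.mem_span_range_iff_exists_fun F).1 hz
    refine Finset.sum_congr rfl fun j _ => ?_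
    congr 1
    rw [hB.sum_left, Finset.sum_eq_single j]
    · rw [hB.smul_left, hg, if_pos rfl, mul_one]
    · intro i _ hi
      rw [hB.smul_left, hg, if_neg (fun e => hi (hπ₁.injective e).symm), mul_zero]
    · simp
  obtain ⟨Y, hmem, hYnd, hproj⟩ := hf.complement hB le_top hnd
  have hmem' : ∀ y, y ∈ Y ↔ ∀ i, B y (w i) = 0 ∧ B y (N (w i)) = 0 := by
    intro y
    rw [hmem]
    simp [f, forall_and]
  have hker : ∀ y ∈ Y, N y = 0 := by
    intro y hy
    rw [h.span y]
    refine Finset.sum_eq_zero fun i _ => ?_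
    rw [((hmem' y).1 hy _).2, zero_smul]
  refine ⟨Y, hYnd, hker, hmem', fun κ _ _ ρ y hy => ⟨⟨?_, fun _ => trivial, ?_, ?_⟩,
    fun k => hker _ (hy.mem k)⟩⟩
  · rintro (i | k)
    · show Sum.inl (π₁ (π₁ i)) = _
      rw [hπ₁ i]
    · simp [shape, hy.invol k]
  · have o1 : ∀ k (i : ι ⊕ ι), B (y k) (f i) = 0 := fun k i => ((hmem _).1 (hy.mem k)).2 i
    have o2 : ∀ k (i : ι ⊕ ι), B (f i) (y k) = 0 := fun k i => hB.eq_zero_symm (o1 k i)
    rintro (i | k) (j | l)
    · show B (f i) (f j) = if Sum.inl j = Sum.inl (π₁ i) then 1 else 0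
      rw [hg]
      simp
    · show B (f i) (y l) = _
      rw [o2, if_neg (by simp [shape])]
    · show B (y k) (f j) = _
      rw [o1, if_neg (by simp [shape])]
    · show B (y k) (y l) = if Sum.inr l = Sum.inr (ρ k) then 1 else 0
      rw [hy.gram]
      simp
  · intro x hx
    have o2 : ∀ k (i : ι ⊕ ι), B (f i) (y k) = 0 :=
      fun k i => hB.eq_zero_symm (((hmem _).1 (hy.mem k)).2 i)
    set p := ∑ i, B x (f (π₁ i)) • f i with hp
    have h1 := hy.expand _ (hproj x hx)
    have hBy : ∀ k, B (x - p) (y k) = B x (y k) := by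
      intro k
      rw [hB.sub_left, hp, hB.sum_left, Finset.sum_eq_zero, sub_zero]
      intro i _
      rw [hB.smul_left, o2, mul_zero]
    have h2 : x - p = ∑ k, B x (y (ρ k)) • y k :=
      h1.trans (Finset.sum_congr rfl fun k _ => by rw [← hBy (ρ k)])
    conv_lhs => rw [← sub_add_cancel x p, h2]
    rw [Fintype.sum_sum_type, add_comm]
    rfl

namespace NF

variable {ι κ : Type*} [Fintype ι] [DecidableEq ι] [Fintype κ] [DecidableEq κ] {π : ι → ι}
  {ρ : κ → κ} {w : ι → V} {y : κ → V}

theorem range_eq (h : NF B N π ρ w y) (hN : IsSqZero B N) :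
    LinearMap.range N = Submodule.span F (Set.range fun i => N (w i)) := by
  apply le_antisymm
  · rintro _ ⟨x, rfl⟩
    rw [h.frame.expand x trivial, map_sum]
    refine Submodule.sum_mem _ fun s _ => ?_
    rw [map_smul]
    refine Submodule.smul_mem _ _ ?_
    rcases s with (i | i) | k
    · exact Submodule.subset_span ⟨i, rfl⟩
    · simp [family, hN.sq]
    · simp [family, h.ker]
  · rw [Submodule.span_le]
    rintro _ ⟨i, rfl⟩
    exact ⟨w i, rfl⟩

theorem finrank_range (hB : IsHerm σ B) (h : NF B N π ρ w y) (hN : IsSqZero B N) :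
    Module.finrank F (LinearMap.range N) = Fintype.card ι := by
  rw [h.range_eq hN]
  exact finrank_span_eq_card
    ((h.frame.linearIndependent hB).comp (fun i => Sum.inl (Sum.inr i))
      (Sum.inl_injective.comp Sum.inr_injective))

theorem finrank_eq [FiniteDimensional F V] (hB : IsHerm σ B) (h : NF B N π ρ w y) :
    Module.finrank F V = Fintype.card ι + Fintype.card ι + Fintype.card κ := by
  rw [← finrank_top F V, h.frame.finrank_eq hB, Fintype.card_sum, Fintype.card_sum]

/-- Normal forms of the same shape are conjugate by an isometry. -/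
theorem conj (hB : IsHerm σ B) {N' : V →ₗ[F] V} (hN : IsSqZero B N) (hN' : IsSqZero B N')
    {w' : ι → V} {y' : κ → V} (h : NF B N π ρ w y) (h' : NF B N' π ρ w' y') :
    ∃ g : V ≃ₗ[F] V, (∀ x z, B (g x) (g z) = B x z) ∧ ∀ x, g (N x) = N' (g x) := by
  obtain ⟨g, hg, hiso⟩ := h.frame.exists_isometry hB h'.frame
  refine ⟨g, hiso, fun x => ?_⟩
  suffices hh : g.toLinearMap.comp N = N'.comp g.toLinearMap from LinearMap.congr_fun hh x
  refine (h.frame.basis hB).ext fun s => ?_
  rw [h.frame.basis_apply]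
  simp only [LinearMap.comp_apply, LinearEquiv.coe_coe, hg]
  rcases s with (i | i) | k
  · exact hg (Sum.inl (Sum.inr i))
  · simp [family, hN.sq, hN'.sq]
  · simp [family, h.ker, h'.ker]

end NF

end Cfsg.Agent.Lib.Char2Inv.Normal
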