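import Cfsg.Agent.Lib.Char2Inv.Symplectic
import Cfsg.Agent.Lib.Forms.Quad

set_option autoImplicit false

/-!
Involutions of orthogonal groups in even dimension over finite fields of characteristic two: they
are conjugate in the orthogonal group exactly when rank and type agree.
-/

namespace Cfsg.Agent.Lib.Char2Inv.Orth

open Cfsg.Agent.Lib.Char2Inv.Forms Cfsg.Agent.Lib.Char2Inv.Normal QuadraticMap
open Cfsg.Agent.Lib.Forms (Nondeg orth Q_add Q_smul witt_orth orth_polar polar_self')

variable {F : Type*} [Field F] [Finite F] [CharP F 2] {V : Type*} [AddCommGroup V] [Module F V]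
  [FiniteDimensional F V] {Q : QuadraticForm F V} {N : V →ₗ[F] V}

theorem polar_isHerm (Q : QuadraticForm F V) : IsHerm (RingHom.id F) (polar Q) where
  add_left u v w := polar_add_left Q u v w
  smul_left c u v := by rw [polar_smul_left, smul_eq_mul]
  symm u v := (polar_comm Q v u)
  invol _ := rfl

theorem polar_alt (Q : QuadraticForm F V) (v : V) : polar Q v v = 0 := by
  rw [polar_self']; simp [CharTwo.two_eq_zero]

theorem nondegOn_top (hQ : Nondeg Q) : NondegOn (polar Q) (⊤ : Submodule F V) :=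
  fun x _ h => hQ x fun y => h y trivial

theorem sqrt_exists (c : F) : ∃ d, d * d = c := by
  obtain ⟨d, hd⟩ := Symplectic.norm_surj c rfl
  exact ⟨d, hd⟩

/-- `1 + N` is an isometry, so `Q (N x)` is the twisted norm of `x`. -/
theorem Q_N (hI : ∀ x, Q (x + N x) = Q x) (x : V) : Q (N x) = polar Q x (N x) := by
  have h := hI x
  rw [Q_add] at h
  have : Q (N x) + polar Q x (N x) = 0 := by linear_combination h
  exact CharTwo.add_eq_zero.1 this

theorem Q_sum_orth {ι : Type*} (s : Finset ι) (f : ι → V) (h : ∀ i j, polar Q (f i) (f j) = 0) :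
    Q (∑ i ∈ s, f i) = ∑ i ∈ s, Q (f i) := by
  classical
  induction s using Finset.induction with
  | empty => simp
  | insert a s ha ih =>
    rw [Finset.sum_insert ha, Finset.sum_insert ha, Q_add, ih, (polar_isHerm Q).sum_right,
      Finset.sum_eq_zero (fun i _ => h a i), add_zero]

variable {ι : Type*} [Fintype ι] [DecidableEq ι] {π : ι → ι} {w : ι → V}

theorem Q_shift (hN : IsSqZero (polar Q) N) (hI : ∀ x, Q (x + N x) = Q x)
    (h : Lift (polar Q) N π w) (c : ι → ι → F) (i : ι) :
    Q (w i + ∑ k, c i k • N (w (π k))) =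
      Q (w i) + c i i + ∑ k, c i k * c i k * (if π k = k then 1 else 0) := by
  have hB := polar_isHerm Q
  have horth : ∀ k l, polar Q (c i k • N (w (π k))) (c i l • N (w (π l))) = 0 := by
    intro k l
    rw [hB.smul_left, hB.smul_right, N_N_zero hB hN]
    simp
  have h1 : polar Q (w i) (∑ k, c i k • N (w (π k))) = c i i := by
    rw [hB.sum_right, Finset.sum_eq_single i]
    · rw [hB.smul_right, h.gram, if_pos rfl]; simp
    · intro k _ hk
      rw [hB.smul_right, h.gram, if_neg (fun e => hk (h.invol.injective e)), mul_zero]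
    · simp
  rw [Q_add, h1, Q_sum_orth _ _ horth]
  have h2 : ∀ k, Q (c i k • N (w (π k))) = c i k * c i k * (if π k = k then 1 else 0) := by
    intro k
    rw [Q_smul, Q_N hI, h.gram, h.invol]
  rw [Finset.sum_congr rfl fun k _ => h2 k]
  ring

theorem shift_orth (hN : IsSqZero (polar Q) N) (h : Lift (polar Q) N π w)
    (ho : ∀ i j, polar Q (w i) (w j) = 0) (c : ι → ι → F) (hc : ∀ i j, c i j = c j i) (i j : ι) :
    polar Q (w i + ∑ k, c i k • N (w (π k))) (w j + ∑ k, c j k • N (w (π k))) = 0 := by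
  rw [h.shift_gram (polar_isHerm Q) hN, ho, hc i j, RingHom.id_apply, zero_add,
    CharTwo.add_self_eq_zero]

theorem shift_lift (hN : IsSqZero (polar Q) N) (h : Lift (polar Q) N π w) (c : ι → ι → F) :
    Lift (polar Q) N π (fun i => w i + ∑ k, c i k • N (w (π k))) :=
  h.congr (polar_isHerm Q) hN (fun i => by simp [hN.sq])

/-- In the alternating case all lifts can be made singular. -/
theorem exists_lift_alt (hQ : Nondeg Q) (hN : IsSqZero (polar Q) N)
    (hI : ∀ x, Q (x + N x) = Q x) (halt : ∀ v, polar Q v (N v) = 0) :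
    ∃ (k : ℕ) (w : Fin k ⊕ Fin k → V), Lift (polar Q) N Sum.swap w ∧
      (∀ i j, polar Q (w i) (w j) = 0) ∧ ∀ i, Q (w i) = 0 := by
  have hB := polar_isHerm Q
  obtain ⟨W, hW, hWN⟩ := exists_complement hB hN (nondegOn_top hQ)
  obtain ⟨k, w, hw⟩ := exists_symplectic_frame (twist_isHerm hB hN) W hW (fun x _ => halt x)
  obtain ⟨w₁, hl, ho⟩ := (lift_of_frame hB hN hWN hw).exists_orth hB hN (fun _ => 0)
    (fun i => by rw [polar_alt]; simp)
  let c : Fin k ⊕ Fin k → Fin k ⊕ Fin k → F := fun i j => if i = j then Q (w₁ i) else 0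
  refine ⟨k, _, shift_lift hN hl c, shift_orth hN hl ho c (fun i j => ?_), fun i => ?_⟩
  · by_cases h : i = j
    · subst h; rfl
    · simp [c, h, Ne.symm h]
  · rw [Q_shift hN hI hl, Finset.sum_eq_zero]
    · simp [c, CharTwo.add_self_eq_zero]
    · intro j _
      rw [if_neg (by cases j <;> simp), mul_zero]

/-- In the other case all lifts but one can be made singular. -/
theorem exists_lift_odd (hQ : Nondeg Q) (hN : IsSqZero (polar Q) N)
    (hI : ∀ x, Q (x + N x) = Q x) (hna : ¬ ∀ v, polar Q v (N v) = 0) :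
    ∃ (k : ℕ) (w : Fin (k + 1) → V), Lift (polar Q) N id w ∧
      (∀ i j, polar Q (w i) (w j) = 0) ∧ ∀ i, i ≠ 0 → Q (w i) = 0 := by
  have hB := polar_isHerm Q
  obtain ⟨W, hW, hWN⟩ := exists_complement hB hN (nondegOn_top hQ)
  obtain ⟨v, hv⟩ := not_forall.1 hna
  obtain ⟨z, hz, hNz, hzv⟩ := hWN v
  have hz' : polar Q z (N z) ≠ 0 := by
    show twist (polar Q) N z z ≠ 0
    rw [← (hzv v).2]; exact hv
  obtain ⟨k, w, hw⟩ := exists_orthonormal_frame (twist_isHerm hB hN) Symplectic.norm_surj W hW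
    (fun _ => ⟨z, hz, hz'⟩)
  cases k with
  | zero =>
    exact absurd (by rw [hw.expand z hz]; simp [hB.zero_left]) hz'
  | succ k =>
    obtain ⟨w₁, hl, ho⟩ := (lift_of_frame hB hN hWN hw).exists_orth hB hN (fun _ => 0)
      (fun i => by rw [polar_alt]; simp)
    choose r hr using fun i => sqrt_exists (Q (w₁ i))
    let c : Fin (k + 1) → Fin (k + 1) → F := fun i j =>
      if i = j then 0 else if i = 0 then r j else if j = 0 then r i else 0
    refine ⟨k, _, shift_lift hN hl c, shift_orth hN hl ho c (fun i j => ?_), fun i hi => ?_⟩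
    · by_cases h : i = j
      · subst h; rfl
      · by_cases hi : i = 0
        · subst hi; simp [c, h, Ne.symm h]
        · by_cases hj : j = 0
          · subst hj; simp [c, hi, Ne.symm hi]
          · simp [c, h, Ne.symm h, hi, hj]
    · rw [Q_shift hN hI hl, Finset.sum_eq_single (0 : Fin (k + 1))]
      · simp [c, hi, hr, CharTwo.add_self_eq_zero]
      · intro j _ hj
        simp [c, hi, hj]
      · simp

/-- Changing `Q` on the distinguished lift by an element `t + t²`. -/
theorem lift_shift_zero (hN : IsSqZero (polar Q) N) (hI : ∀ x, Q (x + N x) = Q x) {k : ℕ}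
    {w : Fin (k + 1) → V} (h : Lift (polar Q) N id w) (ho : ∀ i j, polar Q (w i) (w j) = 0)
    (hw : ∀ i, i ≠ 0 → Q (w i) = 0) (t : F) :
    ∃ w' : Fin (k + 1) → V, Lift (polar Q) N id w' ∧ (∀ i j, polar Q (w' i) (w' j) = 0) ∧
      (∀ i, i ≠ 0 → Q (w' i) = 0) ∧ Q (w' 0) = Q (w 0) + (t + t * t) := by
  let c : Fin (k + 1) → Fin (k + 1) → F := fun i j => if i = 0 ∧ j = 0 then t else 0
  refine ⟨_, shift_lift hN h c, shift_orth hN h ho c (fun i j => ?_), fun i hi => ?_, ?_⟩
  · simp [c, and_comm]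
  · rw [Q_shift hN hI h, hw i hi, Finset.sum_eq_zero]
    · simp [c, hi]
    · intro j _; simp [c, hi]
  · rw [Q_shift hN hI h, Finset.sum_eq_single (0 : Fin (k + 1))]
    · simp [c]; ring
    · intro j _ hj; simp [c, hj]
    · simp

/-- With a non-zero fixed part the distinguished lift can be made singular as well. -/
theorem lift_singular_of_fixed (hN : IsSqZero (polar Q) N) {k : ℕ}
    {w : Fin (k + 1) → V} (h : Lift (polar Q) N id w) (ho : ∀ i j, polar Q (w i) (w j) = 0)
    (hw : ∀ i, i ≠ 0 → Q (w i) = 0) {l : ℕ} {y : Fin (l + 1) ⊕ Fin (l + 1) → V}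
    (hnf : NF (polar Q) N id Sum.swap w y) :
    ∃ w' : Fin (k + 1) → V, Lift (polar Q) N id w' ∧ (∀ i j, polar Q (w' i) (w' j) = 0) ∧
      ∀ i, Q (w' i) = 0 := by
  have hB := polar_isHerm Q
  set e := y (Sum.inl 0) with he
  set f := y (Sum.inr 0) with hf
  have hgr := hnf.frame.gram
  have hef : polar Q e f = 1 := by
    have := hgr (Sum.inr (Sum.inl 0)) (Sum.inr (Sum.inr 0))
    simpa [family, shape] using this
  have horth : ∀ j i, polar Q (y j) (w i) = 0 := fun j i => by
    have := hgr (Sum.inr j) (Sum.inl (Sum.inl i))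
    simpa [family, shape] using this
  -- a fixed vector orthogonal to all lifts with non-zero norm
  have hex : ∃ v, N v = 0 ∧ (∀ i, polar Q v (w i) = 0) ∧ Q v ≠ 0 := by
    by_cases h1 : Q e ≠ 0
    · exact ⟨e, hnf.ker _, horth _, h1⟩
    by_cases h2 : Q f ≠ 0
    · exact ⟨f, hnf.ker _, horth _, h2⟩
    refine ⟨e + f, by rw [map_add, he, hf, hnf.ker, hnf.ker, add_zero], fun i => ?_, ?_⟩
    · rw [hB.add_left, he, hf, horth, horth, add_zero]
    · rw [Q_add, not_not.1 h1, not_not.1 h2, hef]; simp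
  obtain ⟨v, hNv, hvo, hQv⟩ := hex
  obtain ⟨d, hd⟩ := sqrt_exists (Q (w 0) / Q v)
  let w' : Fin (k + 1) → V := fun i => w i + (if i = 0 then d else 0) • v
  have hw'l : Lift (polar Q) N id w' := h.congr hB hN fun i => by by_cases hi : i = 0 <;> simp [w', hi, hNv]
  refine ⟨w', hw'l, fun i j => ?_, fun i => ?_⟩
  · simp only [w', hB.add_left, hB.add_right, hB.smul_left, hB.smul_right, ho, hvo,
      hB.symm v (w i), polar_alt, RingHom.id_apply, mul_zero, add_zero]
  · simp only [w', Q_add, Q_smul, hB.smul_right, hB.symm v (w i), hvo, RingHom.id_apply,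
      mul_zero, add_zero]
    by_cases hi : i = 0
    · subst hi
      simp [hd, hQv, CharTwo.add_self_eq_zero]
    · simp [hi, hw i hi]

/-- Lifts with the same data give conjugate maps. -/
theorem conj_of_lift (hQ : Nondeg Q) {N' : V →ₗ[F] V} (hN : IsSqZero (polar Q) N)
    (hN' : IsSqZero (polar Q) N') (hI : ∀ x, Q (x + N x) = Q x)
    (hI' : ∀ x, Q (x + N' x) = Q x) {w' : ι → V}
    (h : Lift (polar Q) N π w) (h' : Lift (polar Q) N' π w')
    (ho : ∀ i j, polar Q (w i) (w j) = 0) (ho' : ∀ i j, polar Q (w' i) (w' j) = 0)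
    (hq : ∀ i, Q (w i) = Q (w' i)) :
    ∃ g ∈ orth Q, ∀ x, g (N x) = N' (g x) := by
  have hB := polar_isHerm Q
  obtain ⟨Y, hY, hYk, _, hmk⟩ := exists_fixed_part hB hN (nondegOn_top hQ) h ho
  obtain ⟨Y', hY', hYk', hmem', hmk'⟩ := exists_fixed_part hB hN' (nondegOn_top hQ) h' ho'
  obtain ⟨l, y, hy⟩ := exists_symplectic_frame hB Y hY (fun x _ => polar_alt Q x)
  obtain ⟨l', y', hy'⟩ := exists_symplectic_frame hB Y' hY' (fun x _ => polar_alt Q x)
  have hnf := hmk _ _ _ hy
  have hnf' := hmk' _ _ _ hy'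
  let E := (Fintype.equivFin (ι ⊕ ι)).symm
  let v : Fin _ → V := fun s => family N w y (Sum.inl (E s))
  let v' : Fin _ → V := fun s => family N' w' y' (Sum.inl (E s))
  have hv : LinearIndependent F v :=
    (hnf.frame.linearIndependent hB).comp _ (Sum.inl_injective.comp E.injective)
  have hv' : LinearIndependent F v' :=
    (hnf'.frame.linearIndependent hB).comp _ (Sum.inl_injective.comp E.injective)
  obtain ⟨g, hg, hgv⟩ := witt_orth hQ v v' hv hv'
    (fun s => by
      show Q (family N w y (Sum.inl (E s))) = Q (family N' w' y' (Sum.inl (E s)))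
      rcases E s with i | i
      · exact hq i
      · show Q (N (w i)) = Q (N' (w' i))
        rw [Q_N hI, Q_N hI', h.gram, h'.gram])
    (fun s t => by
      show polar Q (family N w y (Sum.inl (E s))) (family N w y (Sum.inl (E t))) =
        polar Q (family N' w' y' (Sum.inl (E s))) (family N' w' y' (Sum.inl (E t)))
      rw [hnf.frame.gram, hnf'.frame.gram]
      rcases E s with i | i <;> rcases E t with j | j <;> simp [shape])
  have hgw : ∀ i, g (w i) = w' i := fun i => by
    have := hgv (E.symm (Sum.inl i))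
    simpa [v, v', family] using this
  have hgu : ∀ i, g (N (w i)) = N' (w' i) := fun i => by
    have := hgv (E.symm (Sum.inr i))
    simpa [v, v', family] using this
  refine ⟨g, hg, fun x => ?_⟩
  suffices hh : g.toLinearMap.comp N = N'.comp g.toLinearMap from LinearMap.congr_fun hh x
  refine (hnf.frame.basis hB).ext fun s => ?_
  rw [hnf.frame.basis_apply]
  simp only [LinearMap.comp_apply, LinearEquiv.coe_coe]
  rcases s with (i | i) | j
  · exact (hgu i).trans (by rw [← hgw]; rfl)
  · simp [family, hN.sq, hgu, hN'.sq]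
  · show g (N (y j)) = N' (g (y j))
    rw [hnf.ker, map_zero]
    refine (hYk' _ ((hmem' _).2 fun i => ⟨?_, ?_⟩)).symm
    · rw [← hgw, orth_polar hg]
      simpa [family, shape] using hnf.frame.gram (Sum.inr j) (Sum.inl (Sum.inl i))
    · rw [← hgu, orth_polar hg]
      simpa [family, shape] using hnf.frame.gram (Sum.inr j) (Sum.inl (Sum.inr i))

theorem exists_fixed_frame (hQ : Nondeg Q) (hN : IsSqZero (polar Q) N)
    (h : Lift (polar Q) N π w) (ho : ∀ i j, polar Q (w i) (w j) = 0) :
    ∃ (l : ℕ) (y : Fin l ⊕ Fin l → V), NF (polar Q) N π Sum.swap w y := by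
  have hB := polar_isHerm Q
  obtain ⟨Y, hY, _, _, hmk⟩ := exists_fixed_part hB hN (nondegOn_top hQ) h ho
  obtain ⟨l, y, hy⟩ := exists_symplectic_frame hB Y hY (fun x _ => polar_alt Q x)
  exact ⟨l, y, hmk _ _ _ hy⟩

/-- Without fixed part, the Arf class of the distinguished lift is an invariant of `Q`. -/
theorem arf_transfer (hQ : Nondeg Q) {N' : V →ₗ[F] V} (hN : IsSqZero (polar Q) N)
    (hI : ∀ x, Q (x + N x) = Q x) (hI' : ∀ x, Q (x + N' x) = Q x) {k : ℕ}
    {w w' : Fin (k + 1) → V} {y : Fin 0 ⊕ Fin 0 → V} {y' : Fin 0 ⊕ Fin 0 → V}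
    (hnf : NF (polar Q) N id Sum.swap w y) (hnf' : NF (polar Q) N' id Sum.swap w' y')
    (hw : ∀ i, i ≠ 0 → Q (w i) = 0) (hw' : ∀ i, i ≠ 0 → Q (w' i) = 0)
    (h0 : Q (w' 0) = 0) : ∃ t, t + t * t = Q (w 0) := by
  by_contra hcon
  have hB := polar_isHerm Q
  have gr : ∀ (M : V →ₗ[F] V) (z : Fin (k + 1) → V) (yy : Fin 0 ⊕ Fin 0 → V),
      NF (polar Q) M id Sum.swap z yy → (∀ i j, polar Q (z i) (z j) = 0) ∧
        (∀ i j, polar Q (z i) (M (z j)) = if j = i then 1 else 0) := by
    intro M z yy hh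
    constructor <;> intro i j
    · simpa [family, shape] using hh.frame.gram (Sum.inl (Sum.inl i)) (Sum.inl (Sum.inl j))
    · simpa [family, shape] using hh.frame.gram (Sum.inl (Sum.inl i)) (Sum.inl (Sum.inr j))
  obtain ⟨hww, hwu⟩ := gr N w y hnf
  obtain ⟨hww', hwu'⟩ := gr N' w' y' hnf'
  let v : Fin k → V := fun i => w i.succ
  let v' : Fin k → V := fun i => w' i.succ
  have hv : LinearIndependent F v :=
    (hnf.frame.linearIndependent hB).comp (fun i : Fin k => Sum.inl (Sum.inl i.succ))
      (fun a b h => by simpa using h)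
  have hv' : LinearIndependent F v' :=
    (hnf'.frame.linearIndependent hB).comp (fun i : Fin k => Sum.inl (Sum.inl i.succ))
      (fun a b h => by simpa using h)
  obtain ⟨g, hg, hgv⟩ := witt_orth hQ v v' hv hv'
    (fun i => by rw [hw _ (Fin.succ_ne_zero _), hw' _ (Fin.succ_ne_zero _)])
    (fun i j => by simp [v, v', hww, hww'])
  have hU : ∀ i, Q (N' (w' i)) = 1 := fun i => by rw [Q_N hI', hwu', if_pos rfl]
  -- the coordinates of a vector orthogonal to the singular lifts
  have key : ∀ x, (∀ i : Fin k, polar Q x (v i) = 0) →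
      g x = (polar Q (g x) (N' (w' 0))) • w' 0 + (polar Q (g x) (w' 0)) • N' (w' 0) +
        ∑ i : Fin k, (polar Q (g x) (N' (v' i))) • v' i := by
    intro x hx
    have he := hnf'.frame.expand (g x) trivial
    have hz : ∀ i : Fin k, polar Q (g x) (w' i.succ) = 0 := fun i => by
      rw [show w' i.succ = g (v i) from (hgv i).symm, orth_polar hg]; exact hx i
    simp [Fintype.sum_sum_type, family, shape, Fin.sum_univ_succ, hz] at he
    conv_lhs => rw [he]
    simp only [v']
    abel
  set a := polar Q (g (w 0)) (N' (w' 0)) with ha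
  set b := polar Q (g (w 0)) (w' 0) with hb
  set c := polar Q (g (N (w 0))) (N' (w' 0)) with hc
  set d := polar Q (g (N (w 0))) (w' 0) with hd
  have p0 : ∀ i : Fin k, polar Q (w 0) (v i) = 0 := fun i => hww _ _
  have p1 : ∀ i : Fin k, polar Q (N (w 0)) (v i) = 0 := fun i => by
    rw [hN.adj, hwu, if_neg (Fin.succ_ne_zero i)]
  have e0 := key _ p0
  have e1 := key _ p1
  rw [← ha, ← hb] at e0
  rw [← hc, ← hd] at e1
  have hTo : ∀ (x : Fin k → F), (∀ i, polar Q (∑ j, x j • v' j) (v' i) = 0) ∧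
      polar Q (∑ j, x j • v' j) (w' 0) = 0 ∧ polar Q (∑ j, x j • v' j) (N' (w' 0)) = 0 ∧
      polar Q (w' 0) (∑ j, x j • v' j) = 0 ∧ polar Q (N' (w' 0)) (∑ j, x j • v' j) = 0 ∧
      Q (∑ j, x j • v' j) = 0 := by
    intro x
    refine ⟨fun i => ?_, ?_, ?_, ?_, ?_, ?_⟩
    · rw [hB.sum_left]; simp [v', hB.smul_left, hww']
    · rw [hB.sum_left]; simp [v', hB.smul_left, hww']
    · rw [hB.sum_left]; simp [v', hB.smul_left, hwu', (Fin.succ_ne_zero _).symm]
    · rw [hB.sum_right]; simp [v', hB.smul_right, hww']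
    · rw [hB.sum_right]
      refine Finset.sum_eq_zero fun i _ => ?_
      rw [hB.smul_right, hB.symm (v' i) (N' (w' 0)), hwu' i.succ 0,
        if_neg (Fin.succ_ne_zero i).symm]
      simp
    · rw [Q_sum_orth _ _ (fun i j => by simp [v', hB.smul_left, hB.smul_right, hww'])]
      exact Finset.sum_eq_zero fun i _ => by rw [Q_smul, hw' _ (Fin.succ_ne_zero _), mul_zero]
  have hwu0 : polar Q (w' 0) (N' (w' 0)) = 1 := by rw [hwu', if_pos rfl]
  have hQab : ∀ (a b : F) (x : Fin k → F),
      Q (a • w' 0 + b • N' (w' 0) + ∑ j, x j • v' j) = a * b + b * b := by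
    intro a b x
    obtain ⟨-, -, -, h4, h5, h6⟩ := hTo x
    rw [Q_add, Q_add, Q_smul, Q_smul, h0, hU, hB.smul_left, hB.smul_right, hwu0, hB.add_left,
      hB.smul_left, hB.smul_left, h4, h5, h6, RingHom.id_apply]
    ring
  have hab : Q (w 0) = a * b + b * b := by rw [← hg (w 0), e0, hQab]
  have hcd : (1 : F) = c * d + d * d := by
    rw [← hQab c d (fun i => polar Q (g (N (w 0))) (N' (v' i))), ← e1, hg, Q_N hI, hwu, if_pos rfl]
  have hdet : a * d + b * c = 1 := by
    have h1 : polar Q (g (w 0)) (g (N (w 0))) = 1 := by rw [orth_polar hg, hwu, if_pos rfl]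
    rw [e0, e1] at h1
    obtain ⟨hx1, hx2, hx3, -, -, -⟩ := hTo fun i => polar Q (g (w 0)) (N' (v' i))
    obtain ⟨-, -, -, hy4, hy5, -⟩ := hTo fun i => polar Q (g (N (w 0))) (N' (v' i))
    simp only [hB.add_left, hB.add_right, hB.smul_left, hB.smul_right, RingHom.id_apply, hx2, hx3,
      hy4, hy5, hwu0, hww', polar_alt, hB.symm (w' 0) (N' (w' 0)), mul_zero, mul_one, add_zero,
      zero_add] at h1
    rw [hB.sum_right, Finset.sum_eq_zero (fun i _ => by rw [hB.smul_right, hx1 i, mul_zero]),
      add_zero] at h1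
    linear_combination h1
  have two : (2 : F) = 0 := CharTwo.two_eq_zero
  by_cases hd0 : d = 0
  · rw [hd0] at hcd
    simp at hcd
  · refine hcon ⟨b / d, ?_⟩
    have hmul : (b + b * b / d) = d * (a * b + b * b) := by
      have : b * b / d * d = b * b := div_mul_cancel₀ _ hd0
      apply mul_right_cancel₀ hd0
      linear_combination this + (- (b * d)) * hdet + (b * b) * hcd +
        (b * b * d * d + b * b * c * d - b * b * d * d) * two
    rw [hab]
    apply mul_left_cancel₀ hd0
    rw [← hmul]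
    field_simp

/-- Conjugacy in the orthogonal group from rank and type. -/
theorem exists_conj (hQ : Nondeg Q) {N' : V →ₗ[F] V} (hN : IsSqZero (polar Q) N)
    (hN' : IsSqZero (polar Q) N') (hI : ∀ x, Q (x + N x) = Q x)
    (hI' : ∀ x, Q (x + N' x) = Q x)
    (hr : Module.finrank F (LinearMap.range N) = Module.finrank F (LinearMap.range N'))
    (ht : (∀ v, polar Q v (N v) = 0) ↔ ∀ v, polar Q v (N' v) = 0) :
    ∃ g ∈ orth Q, ∀ x, g (N x) = N' (g x) := by
  have hB := polar_isHerm Q
  by_cases halt : ∀ v, polar Q v (N v) = 0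
  · obtain ⟨k, w, hl, ho, hw⟩ := exists_lift_alt hQ hN hI halt
    obtain ⟨k', w', hl', ho', hw'⟩ := exists_lift_alt hQ hN' hI' (ht.1 halt)
    obtain ⟨l, y, hnf⟩ := exists_fixed_frame hQ hN hl ho
    obtain ⟨l', y', hnf'⟩ := exists_fixed_frame hQ hN' hl' ho'
    rw [hnf.finrank_range hB hN, hnf'.finrank_range hB hN', Fintype.card_sum, Fintype.card_sum,
      Fintype.card_fin, Fintype.card_fin] at hr
    obtain rfl : k = k' := by omega
    exact conj_of_lift hQ hN hN' hI hI' hl hl' ho ho' fun i => by rw [hw, hw']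
  · obtain ⟨k, w, hl, ho, hw⟩ := exists_lift_odd hQ hN hI halt
    obtain ⟨k', w', hl', ho', hw'⟩ := exists_lift_odd hQ hN' hI' (fun e => halt (ht.2 e))
    obtain ⟨l, y, hnf⟩ := exists_fixed_frame hQ hN hl ho
    obtain ⟨l', y', hnf'⟩ := exists_fixed_frame hQ hN' hl' ho'
    rw [hnf.finrank_range hB hN, hnf'.finrank_range hB hN', Fintype.card_fin,
      Fintype.card_fin] at hr
    obtain rfl : k = k' := by omega
    have hd := (hnf.finrank_eq hB).symm.trans (hnf'.finrank_eq hB)
    simp only [Fintype.card_sum, Fintype.card_fin] at hd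
    obtain rfl : l = l' := by omega
    cases l with
    | succ l =>
      obtain ⟨z, hz, hzo, hzq⟩ := lift_singular_of_fixed hN hl ho hw hnf
      obtain ⟨z', hz', hzo', hzq'⟩ := lift_singular_of_fixed hN' hl' ho' hw' hnf'
      exact conj_of_lift hQ hN hN' hI hI' hz hz' hzo hzo' fun i => by rw [hzq, hzq']
    | zero =>
      classical
      let φ : F →+ F :=
        { toFun := fun t => t + t * t
          map_zero' := by simp
          map_add' := fun s t => by linear_combination (s * t) * (CharTwo.two_eq_zero (R := F)) }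
      suffices hdiff : ∃ t, φ t = Q (w 0) + Q (w' 0) by
        obtain ⟨t, ht'⟩ := hdiff
        obtain ⟨z, hz, hzo, hzq, hz0⟩ := lift_shift_zero hN hI hl ho hw t
        refine conj_of_lift hQ hN hN' hI hI' hz hl' hzo ho' fun i => ?_
        by_cases hi : i = 0
        · subst hi
          rw [hz0, show t + t * t = Q (w 0) + Q (w' 0) from ht', ← add_assoc,
            CharTwo.add_self_eq_zero, zero_add]
        · rw [hzq i hi, hw' i hi]
      have inv : ∀ (M M' : V →ₗ[F] V), IsSqZero (polar Q) M → IsSqZero (polar Q) M' →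
          (∀ x, Q (x + M x) = Q x) → (∀ x, Q (x + M' x) = Q x) →
          ∀ (u u' : Fin (k + 1) → V), Lift (polar Q) M id u → Lift (polar Q) M' id u' →
          (∀ i j, polar Q (u i) (u j) = 0) → (∀ i j, polar Q (u' i) (u' j) = 0) →
          (∀ i, i ≠ 0 → Q (u i) = 0) → (∀ i, i ≠ 0 → Q (u' i) = 0) →
          Module.finrank F V = (k + 1) + (k + 1) →
          Q (u' 0) ∈ φ.range → Q (u 0) ∈ φ.range := by
        intro M M' hM hM' hJ hJ' u u' hu hu' huo huo' hq hq' hdim hmem
        obtain ⟨t, ht'⟩ := hmem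
        obtain ⟨z, hz, hzo, hzq, hz0⟩ := lift_shift_zero hM' hJ' hu' huo' hq' t
        rw [show t + t * t = Q (u' 0) from ht', CharTwo.add_self_eq_zero] at hz0
        obtain ⟨a, ya, hnfa⟩ := exists_fixed_frame hQ hM hu huo
        obtain ⟨b, yb, hnfb⟩ := exists_fixed_frame hQ hM' hz hzo
        have da := hnfa.finrank_eq hB
        have db := hnfb.finrank_eq hB
        simp only [Fintype.card_sum, Fintype.card_fin] at da db
        obtain rfl : a = 0 := by omega
        obtain rfl : b = 0 := by omega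
        exact arf_transfer hQ hM hJ hJ' hnfa hnfb hq hzq hz0
      have hdim : Module.finrank F V = (k + 1) + (k + 1) := by
        have := hnf.finrank_eq hB
        simp only [Fintype.card_sum, Fintype.card_fin] at this
        omega
      have hiff : Q (w 0) ∈ φ.range ↔ Q (w' 0) ∈ φ.range :=
        ⟨inv N' N hN' hN hI' hI w' w hl' hl ho' ho hw' hw hdim,
          inv N N' hN hN' hI hI' w w' hl hl' ho ho' hw hw' hdim⟩
      have hindex : φ.range.index = 2 := by
        have hker : Nat.card φ.ker = 2 := by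
          have : (φ.ker : Set F) = {0, 1} := by
            ext t
            simp only [SetLike.mem_coe, AddMonoidHom.mem_ker, Set.mem_insert_iff,
              Set.mem_singleton_iff]
            show t + t * t = 0 ↔ _
            rw [show t + t * t = t * (1 + t) by ring, mul_eq_zero, CharTwo.add_eq_zero, eq_comm (a := (1 : F))]
          rw [← SetLike.coe_sort_coe, this, Nat.card_coe_set_eq, Set.ncard_pair zero_ne_one]
        have h1 := φ.range.card_mul_index
        have h2 := φ.ker.card_mul_index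
        rw [AddSubgroup.index_ker, hker] at h2
        rw [← h2, mul_comm 2] at h1
        exact mul_left_cancel₀ (Nat.card_pos (α := φ.range)).ne' h1
      have hadd : Q (w 0) + Q (w' 0) ∈ φ.range :=
        (AddSubgroup.add_mem_iff_of_index_two hindex).2 hiff
      obtain ⟨t, ht'⟩ := hadd
      exact ⟨t, ht'⟩

end Cfsg.Agent.Lib.Char2Inv.Orth
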