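import Cfsg.Agent.Lib.Char2Inv.Orth

set_option autoImplicit false

/-!
Involutions of the matrix orthogonal groups in characteristic two: conjugacy in the orthogonal group
and in the symplectic group of the polar form coincide.
-/

namespace Cfsg.Agent.Lib.Char2Inv.OrthMatrix

open QuadraticMap Cfsg.Agent.Lib.Char2Inv.Normal
open Cfsg.Agent.Lib.Forms (Nondeg orth glEquiv qPlus qPlus_apply qPlus_nondeg)

variable {F : Type*} [Field F] [CharP F 2] {ι : Type} [Fintype ι] [DecidableEq ι]
  (Q : QuadraticForm F (ι → F)) {f : (ι → F) → F} (hf : ∀ v, f v = Q v)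

/-- `t - 1` for an element `t` of a matrix isometry group. -/
def nil (t : ↥(Cfsg.isometryGroup F f)) : (ι → F) →ₗ[F] (ι → F) :=
  (((t : GL ι F) : Matrix ι ι F) - 1).mulVecLin

theorem nil_apply (t : ↥(Cfsg.isometryGroup F f)) (x : ι → F) :
    nil t x = ((t : GL ι F) : Matrix ι ι F).mulVec x - x := by
  rw [nil, Matrix.mulVecLin_apply, Matrix.sub_mulVec, Matrix.one_mulVec]

theorem mulVec_eq (t : ↥(Cfsg.isometryGroup F f)) (x : ι → F) :
    ((t : GL ι F) : Matrix ι ι F).mulVec x = x + nil t x := by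
  rw [nil_apply]; abel

include hf

theorem nil_isometry (t : ↥(Cfsg.isometryGroup F f)) (x : ι → F) : Q (x + nil t x) = Q x := by
  rw [← mulVec_eq, ← hf, ← hf]
  exact t.2 x x

omit hf in
theorem involution_sq {t : ↥(Cfsg.isometryGroup F f)} (ht : orderOf t = 2) (x : ι → F) :
    ((t : GL ι F) : Matrix ι ι F).mulVec (((t : GL ι F) : Matrix ι ι F).mulVec x) = x := by
  have h := congrArg (fun z : ↥(Cfsg.isometryGroup F f) => ((z : GL ι F) : Matrix ι ι F))
    (pow_orderOf_eq_one t)
  simp only [ht, pow_two, Subgroup.coe_mul, Units.val_mul, OneMemClass.coe_one, Units.val_one] at h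
  rw [Matrix.mulVec_mulVec, h, Matrix.one_mulVec]

theorem nil_isSqZero {t : ↥(Cfsg.isometryGroup F f)} (ht : orderOf t = 2) :
    IsSqZero (polar Q) (nil t) := by
  set T := ((t : GL ι F) : Matrix ι ι F) with hT
  have hadd : ∀ x : ι → F, x + x = 0 := fun x => funext fun i => CharTwo.add_self_eq_zero (x i)
  refine ⟨fun x => ?_, fun u v => ?_⟩
  · rw [nil_apply, nil_apply, Matrix.mulVec_sub, ← hT, involution_sq ht, ← neg_sub (T.mulVec x) x,
      neg_sub, sub_sub, ← add_sub_assoc, sub_eq_zero]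
    rw [eq_sub_iff_add_eq, hadd, hadd]
  · have hp : ∀ a b, polar Q (T.mulVec a) (T.mulVec b) = polar Q a b := fun a b =>
      Cfsg.Agent.Lib.Forms.polar_map T.mulVecLin (fun x => by
        rw [Matrix.mulVecLin_apply, ← hf, ← hf]; exact t.2 x x) a b
    have h := hp (T.mulVec u) v
    rw [involution_sq ht] at h
    rw [nil_apply, nil_apply, ← hT, sub_eq_add_neg, sub_eq_add_neg, polar_add_left,
      polar_add_right, polar_neg_left, polar_neg_right, h]

theorem isConj_of_polar [Finite F] (hQ : Nondeg Q) {t s : ↥(Cfsg.isometryGroup F f)}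
    (ht : orderOf t = 2) (hs : orderOf s = 2) (g : GL ι F)
    (hg : ∀ u v, polar Q ((g : Matrix ι ι F).mulVec u) ((g : Matrix ι ι F).mulVec v) = polar Q u v)
    (hgts : g * (t : GL ι F) * g⁻¹ = (s : GL ι F)) : IsConj t s := by
  let G := glEquiv (F := F) g
  have hG : ∀ x, G x = (g : Matrix ι ι F).mulVec x := fun x =>
    Cfsg.Agent.Lib.Forms.glEquiv_apply g x
  have hgts' : g * (t : GL ι F) = (s : GL ι F) * g := mul_inv_eq_iff_eq_mul.1 hgts
  have hcomm : ∀ x, G (nil t x) = nil s (G x) := by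
    intro x
    rw [nil_apply, nil_apply, map_sub, hG, hG, Matrix.mulVec_mulVec, Matrix.mulVec_mulVec,
      ← Units.val_mul, ← Units.val_mul, hgts']
  have hrange : (LinearMap.range (nil t)).map G.toLinearMap = LinearMap.range (nil s) := by
    rw [← LinearMap.range_comp, show G.toLinearMap.comp (nil t) = (nil s).comp G.toLinearMap from
      LinearMap.ext hcomm, LinearMap.range_comp_of_range_eq_top _ G.range]
  have hr : Module.finrank F (LinearMap.range (nil t)) = Module.finrank F (LinearMap.range (nil s)) := by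
    rw [← hrange]
    exact (LinearEquiv.finrank_map_eq G _).symm
  have hpol : ∀ x y, polar Q (G x) (G y) = polar Q x y := fun x y => by rw [hG, hG]; exact hg x y
  have hty : (∀ v, polar Q v (nil t v) = 0) ↔ ∀ v, polar Q v (nil s v) = 0 := by
    constructor
    · intro h v
      obtain ⟨x, rfl⟩ := G.surjective v
      rw [← hcomm, hpol]
      exact h x
    · intro h x
      rw [← hpol, hcomm]
      exact h _
  obtain ⟨e, he, hec⟩ := Orth.exists_conj hQ (nil_isSqZero Q hf ht) (nil_isSqZero Q hf hs)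
    (nil_isometry Q hf t) (nil_isometry Q hf s) hr hty
  let u : GL ι F := (glEquiv (F := F)).symm e
  have hu : ∀ x, (u : Matrix ι ι F).mulVec x = e x := fun x => by
    rw [← Cfsg.Agent.Lib.Forms.glEquiv_apply, MulEquiv.apply_symm_apply]
  have humem : u ∈ Cfsg.isometryGroup F f := fun x _ => by
    show f ((u : Matrix ι ι F).mulVec x) = f x
    rw [hu, hf, hf]
    exact he x
  refine isConj_iff.2 ⟨⟨u, humem⟩, mul_inv_eq_iff_eq_mul.2 (Subtype.ext (Units.ext ?_))⟩
  apply Matrix.ext_iff_mulVec.2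
  intro x
  simp only [Subgroup.coe_mul, Units.val_mul, ← Matrix.mulVec_mulVec, hu, mulVec_eq, map_add, hec]

theorem isConj_iff_polar [Finite F] (hQ : Nondeg Q) {t s : ↥(Cfsg.isometryGroup F f)}
    (ht : orderOf t = 2) (hs : orderOf s = 2) :
    IsConj t s ↔ ∃ g ∈ Cfsg.preserving (Units.coeHom (Matrix ι ι F))
      (fun u v => f (u + v) - f u - f v), g * (t : GL ι F) * g⁻¹ = (s : GL ι F) := by
  constructor
  · intro h
    obtain ⟨c, hc⟩ := isConj_iff.1 h
    refine ⟨c, fun u v => ?_, congrArg Subtype.val hc⟩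
    have hc' : ∀ x, f (((c : GL ι F) : Matrix ι ι F).mulVec x) = f x := fun x => c.2 x x
    show f (((c : GL ι F) : Matrix ι ι F).mulVec u + ((c : GL ι F) : Matrix ι ι F).mulVec v) -
      f (((c : GL ι F) : Matrix ι ι F).mulVec u) - f (((c : GL ι F) : Matrix ι ι F).mulVec v) = _
    rw [← Matrix.mulVec_add, hc', hc', hc']
  · rintro ⟨g, hg, hgts⟩
    refine isConj_of_polar Q hf hQ ht hs g (fun u v => ?_) hgts
    have := hg u v
    simpa [polar, hf] using this

omit hf

theorem quadFormPlus_eq (m : ℕ) (v : Fin m ⊕ Fin m → F) :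
    Cfsg.quadFormPlus m F v = qPlus m v := by
  rw [qPlus_apply]; rfl

/-- The minus-type form as a quadratic form. -/
def qMinus (m : ℕ) (c d : F) : QuadraticForm F ((Fin m ⊕ Fin m) ⊕ Fin 2 → F) :=
  (∑ i : Fin m, QuadraticMap.proj (R := F) (A := F) (Sum.inl (Sum.inl i)) (Sum.inl (Sum.inr i))) +
    (QuadraticMap.proj (Sum.inr 0) (Sum.inr 0) + c • QuadraticMap.proj (Sum.inr 0) (Sum.inr 1) +
      d • QuadraticMap.proj (Sum.inr 1) (Sum.inr 1))

theorem qMinus_apply (m : ℕ) (c d : F) (v : (Fin m ⊕ Fin m) ⊕ Fin 2 → F) :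
    Cfsg.quadFormMinus m F c d v = qMinus m c d v := by
  simp [qMinus, Cfsg.quadFormMinus, pow_two, mul_assoc]

theorem anisotropic_coeff_ne_zero [Finite F] {c d : F}
    (hcd : ∀ z₁ z₂ : F, z₁ ^ 2 + c * z₁ * z₂ + d * z₂ ^ 2 = 0 → z₁ = 0 ∧ z₂ = 0) : c ≠ 0 := by
  intro hc
  obtain ⟨r, hr⟩ := Orth.sqrt_exists d
  have := hcd r 1 (by rw [hc, pow_two, hr]; simp [CharTwo.add_self_eq_zero])
  exact one_ne_zero this.2

theorem qMinus_nondeg [Finite F] (m : ℕ) {c d : F}
    (hcd : ∀ z₁ z₂ : F, z₁ ^ 2 + c * z₁ * z₂ + d * z₂ ^ 2 = 0 → z₁ = 0 ∧ z₂ = 0) :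
    Nondeg (qMinus m c d) := by
  intro x h
  have hc := anisotropic_coeff_ne_zero hcd
  have two : (2 : F) = 0 := CharTwo.two_eq_zero
  funext s
  rcases s with (i | i) | j
  · have := h (Pi.single (Sum.inl (Sum.inr i)) 1)
    simpa [polar, ← qMinus_apply, Cfsg.quadFormMinus, Pi.single_apply, add_mul, mul_add,
      Finset.sum_add_distrib, Finset.sum_ite_eq, CharTwo.sub_eq_add, add_assoc, add_comm,
      add_left_comm, CharTwo.add_self_eq_zero] using this
  · have := h (Pi.single (Sum.inl (Sum.inl i)) 1)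
    simpa [polar, ← qMinus_apply, Cfsg.quadFormMinus, Pi.single_apply, add_mul, mul_add,
      Finset.sum_add_distrib, Finset.sum_ite_eq, CharTwo.sub_eq_add, add_assoc, add_comm,
      add_left_comm, CharTwo.add_self_eq_zero] using this
  · fin_cases j
    · have := h (Pi.single (Sum.inr 1) 1)
      simp [polar, ← qMinus_apply, Cfsg.quadFormMinus, Pi.single_apply] at this
      have h' : c * x (Sum.inr 0) = 0 := by linear_combination this - d * x (Sum.inr 1) * two
      exact (mul_eq_zero.1 h').resolve_left hc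
    · have := h (Pi.single (Sum.inr 0) 1)
      simp [polar, ← qMinus_apply, Cfsg.quadFormMinus, Pi.single_apply] at this
      have h' : c * x (Sum.inr 1) = 0 := by linear_combination this - x (Sum.inr 0) * two
      exact (mul_eq_zero.1 h').resolve_left hc

end Cfsg.Agent.Lib.Char2Inv.OrthMatrix
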