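import Cfsg.Agent.Lib.Char2Inv.Orth
import Cfsg.Agent.Lib.Forms.Det
import Cfsg.Agent.Lib.Forms.Reflections

set_option autoImplicit false

/-!
The commutator subgroup of an orthogonal group in characteristic two, and the Dickson invariant read
off from a maximal totally singular subspace.
-/

namespace Cfsg.Agent.Lib.Char2Inv.OrthOmega

open QuadraticMap Module Cfsg.Agent.Lib.Char2Inv.Forms
open Cfsg.Agent.Lib.Forms (Nondeg orth refl orefl refl_apply refl_conj refl_smul refl_mul_self
  witt_one orth_polar polar_self' singular_polar two_mul_finrank_le dev dev_apply fixSpace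
  mem_fixSpace finrank_range_dev reflSet closure_reflSet dickson dicksonHom dicksonHom_orefl
  dickson_orefl Q_add Q_smul)

variable {F : Type*} [Field F] [Finite F] [CharP F 2] {V : Type*} [AddCommGroup V] [Module F V]
  [FiniteDimensional F V] {Q : QuadraticForm F V}

/-- All reflections are conjugate. -/
theorem orefl_conj (hQ : Nondeg Q) {v w : V} (hv : Q v ≠ 0) (hw : Q w ≠ 0) :
    ∃ g : orth Q, g * orefl Q v * g⁻¹ = orefl Q w := by
  have hv0 : v ≠ 0 := fun h => hv (by simp [h])
  have hw0 : w ≠ 0 := fun h => hw (by simp [h])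
  obtain ⟨a, ha⟩ := Orth.sqrt_exists (Q w / Q v)
  have ha0 : a ≠ 0 := fun h => by
    rw [h, mul_zero, eq_comm, div_eq_zero_iff] at ha
    exact ha.elim hw hv
  obtain ⟨g, hg, hgv⟩ := witt_one hQ (smul_ne_zero ha0 hv0) hw0
    (by rw [Q_smul, ha, div_mul_cancel₀ _ hv])
  refine ⟨⟨g, hg⟩, Subtype.ext ?_⟩
  show g * refl Q v * g⁻¹ = refl Q w
  rw [← refl_smul Q ha0, refl_conj hg, hgv]

/-- The commutator subgroup consists of the elements of even Dickson invariant. -/
theorem mem_commutator_iff (hQ : Nondeg Q) (hn : finrank F V ≠ 4) (g : orth Q) :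
    g ∈ commutator (orth Q) ↔ dickson Q g = 0 := by
  set D := dicksonHom hQ (Or.inr hn) with hD
  have hDg : ∀ x, D x = Multiplicative.ofAdd (dickson Q x) := fun x => rfl
  have hker : g ∈ D.ker ↔ dickson Q g = 0 := by
    rw [MonoidHom.mem_ker, hDg]; exact Multiplicative.ofAdd.injective.eq_iff' rfl
  constructor
  · exact fun h => hker.1 (Abelianization.commutator_subset_ker D h)
  intro hg
  by_cases hr : ∃ v, Q v ≠ 0
  · obtain ⟨v₀, hv₀⟩ := hr
    have hgen : ∀ x : orth Q, x ∈ commutator (orth Q) ∨ orefl Q v₀ * x ∈ commutator (orth Q) := by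
      intro x
      have hx : x ∈ Subgroup.closure (reflSet Q) := by rw [closure_reflSet hQ (Or.inr hn)]; trivial
      have h0 : orefl Q v₀ * orefl Q v₀ = 1 := Subtype.ext (refl_mul_self Q v₀)
      induction hx using Subgroup.closure_induction_left with
      | one => exact Or.inl (one_mem _)
      | mul_left y hy z hz ih =>
        obtain ⟨v, hv, rfl⟩ := hy
        obtain ⟨c, hc⟩ := orefl_conj hQ hv₀ hv
        have hcv : orefl Q v * orefl Q v₀ ∈ commutator (orth Q) := by
          have := Subgroup.commutator_mem_commutator (Subgroup.mem_top c)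
            (Subgroup.mem_top (orefl Q v₀))
          rw [← commutator_def, commutatorElement_def, hc] at this
          rwa [inv_eq_of_mul_eq_one_left h0] at this
        have hn' : (commutator (orth Q)).Normal := inferInstance
        rcases ih with h | h
        · refine Or.inr ?_
          have h1 := hn'.conj_mem _ (mul_mem hcv (hn'.conj_mem _ h (orefl Q v₀))) (orefl Q v₀)
          rw [inv_eq_of_mul_eq_one_left h0] at h1
          convert h1 using 1
          simp only [mul_assoc, h0, mul_one]
          rw [← mul_assoc (orefl Q v₀) (orefl Q v₀), h0, one_mul]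
        · refine Or.inl ?_
          have h1 := mul_mem hcv h
          rwa [mul_assoc, ← mul_assoc (orefl Q v₀), h0, one_mul] at h1
      | inv_mul_cancel y hy z hz ih =>
        obtain ⟨v, hv, rfl⟩ := hy
        obtain ⟨c, hc⟩ := orefl_conj hQ hv₀ hv
        have hvv : (orefl Q v)⁻¹ = orefl Q v :=
          inv_eq_of_mul_eq_one_left (Subtype.ext (refl_mul_self Q v))
        rw [hvv]
        have hcv : orefl Q v * orefl Q v₀ ∈ commutator (orth Q) := by
          have := Subgroup.commutator_mem_commutator (Subgroup.mem_top c)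
            (Subgroup.mem_top (orefl Q v₀))
          rw [← commutator_def, commutatorElement_def, hc] at this
          rwa [inv_eq_of_mul_eq_one_left h0] at this
        have hn' : (commutator (orth Q)).Normal := inferInstance
        rcases ih with h | h
        · refine Or.inr ?_
          have h1 := hn'.conj_mem _ (mul_mem hcv (hn'.conj_mem _ h (orefl Q v₀))) (orefl Q v₀)
          rw [inv_eq_of_mul_eq_one_left h0] at h1
          convert h1 using 1
          simp only [mul_assoc, h0, mul_one]
          rw [← mul_assoc (orefl Q v₀) (orefl Q v₀), h0, one_mul]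
        · refine Or.inl ?_
          have h1 := mul_mem hcv h
          rwa [mul_assoc, ← mul_assoc (orefl Q v₀), h0, one_mul] at h1
    rcases hgen g with h | h
    · exact h
    · have h1 := MonoidHom.mem_ker.1 (Abelianization.commutator_subset_ker D h)
      rw [map_mul, hD, dicksonHom_orefl hQ _ hv₀, ← hD, hDg, hg] at h1
      exact absurd h1 (by decide)
  · push Not at hr
    have hV : ∀ x : V, x = 0 := fun x => hQ x fun y => by simp [polar, hr]
    have : g = 1 := Subtype.ext (LinearEquiv.ext fun x => (hV _).trans (hV _).symm)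
    exact this ▸ one_mem _

/-- The quotient of an alternating form by its radical has even dimension. -/
theorem even_codim_radical {ψ : V → V → F} (hψ : IsHerm (RingHom.id F) ψ) (S : Submodule F V)
    (halt : ∀ x ∈ S, ψ x x = 0) (R : Submodule F V)
    (hR : ∀ x, x ∈ R ↔ x ∈ S ∧ ∀ y ∈ S, ψ x y = 0) :
    Even (finrank F S + finrank F R) := by
  obtain ⟨C₀, hC₀⟩ := Submodule.exists_isCompl R
  have hRS : R ≤ S := fun x hx => ((hR x).1 hx).1
  set C := C₀ ⊓ S with hC
  have hsup : R ⊔ C = S := by
    rw [hC, ← sup_inf_assoc_of_le _ hRS, hC₀.sup_eq_top, top_inf_eq]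
  have hinf : R ⊓ C = ⊥ := le_bot_iff.1 (by
    rw [hC, ← inf_assoc, hC₀.inf_eq_bot]; exact inf_le_left)
  have hCnd : NondegOn ψ C := by
    intro x hx h
    have hxR : x ∈ R := (hR x).2 ⟨hx.2, fun y hy => by
      obtain ⟨r, hr, c, hc, rfl⟩ := Submodule.mem_sup.1 (hsup.symm ▸ hy : y ∈ R ⊔ C)
      rw [hψ.add_right, h c hc, add_zero, hψ.symm r x, ((hR r).1 hr).2 x hx.2, map_zero]⟩
    exact (Submodule.mem_bot F).1 (hinf ▸ ⟨hxR, hx⟩)
  obtain ⟨k, e, he⟩ := exists_symplectic_frame hψ C hCnd (fun x hx => halt x hx.2)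
  have hk := he.finrank_eq hψ
  have := Submodule.finrank_sup_add_finrank_inf_eq R C
  rw [hsup, hinf, finrank_bot, add_zero, hk, Fintype.card_sum, Fintype.card_fin] at this
  exact ⟨finrank F R + k, by omega⟩

/-- The stabiliser of a maximal totally singular subspace has even Dickson invariant. -/
theorem dickson_stabiliser (hQ : Nondeg Q) {m : ℕ} (hdim : finrank F V = 2 * m)
    {U : Submodule F V} (hU : ∀ x ∈ U, Q x = 0) (hUm : finrank F U = m) (h : orth Q)
    (hh : U.map (h : V ≃ₗ[F] V).toLinearMap = U) : dickson Q h = 0 := by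
  have hB := Orth.polar_isHerm Q
  have hBnd := hQ.polarBilin
  have hrefl : LinearMap.BilinForm.IsRefl (polarBilin Q) := fun x y e => by
    rwa [polarBilin_apply_apply, polar_comm] at e
  let P : Submodule F V → Submodule F V := LinearMap.BilinForm.orthogonal (polarBilin Q)
  have hP : ∀ W x, x ∈ P W ↔ ∀ y ∈ W, polar Q y x = 0 := fun W x => Iff.rfl
  have hPdim : ∀ W, finrank F (P W) = finrank F V - finrank F W := fun W =>
    LinearMap.BilinForm.finrank_orthogonal hBnd W
  have hUU : P U = U := by
    refine (Submodule.eq_of_le_of_finrank_eq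
      (fun x hx => (hP U x).2 fun y hy => singular_polar hU hy hx) ?_).symm
    rw [hPdim]; omega
  set d := dev (h : V ≃ₗ[F] V) with hd
  have hmem : ∀ x, x ∈ U → (h : V ≃ₗ[F] V) x ∈ U := fun x hx => hh ▸ ⟨x, hx, rfl⟩
  have hdU : ∀ x ∈ U, d x ∈ U := fun x hx => by
    rw [hd, dev_apply]; exact U.sub_mem (hmem x hx) hx
  have hiso : ∀ x y, polar Q (d x) y + polar Q x (d y) + polar Q (d x) (d y) = 0 := by
    intro x y
    have e := orth_polar h.2 x y
    rw [← sub_add_cancel ((h : V ≃ₗ[F] V) x) x, ← sub_add_cancel ((h : V ≃ₗ[F] V) y) y,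
      ← dev_apply, ← dev_apply, ← hd, polar_add_left, polar_add_right, polar_add_right] at e
    linear_combination e
  set S := U.comap d with hS
  set R := (U.map d).comap d with hR
  have hUS : U ≤ S := fun x hx => hdU x hx
  -- `S` is the orthogonal of `d U`
  have hSP : S = P (U.map d) := by
    ext x
    have e1 : x ∈ P (U.map d) ↔ ∀ u ∈ U, polar Q (d u) x = 0 :=
      (hP _ x).trans ⟨fun e u hu => e _ (Submodule.mem_map_of_mem hu),
        fun e => by rintro _ ⟨u, hu, rfl⟩; exact e u hu⟩
    have e2 : d x ∈ U ↔ ∀ u ∈ U, polar Q u (d x) = 0 := by rw [← hP, hUU]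
    rw [e1, hS, Submodule.mem_comap, e2]
    constructor <;> intro e u hu
    · -- write `u` as the image of a vector of `U` and use the isometry
      have e3 := hiso u x
      have e4 := e (d u) (hdU u hu)
      linear_combination e3 - e u hu - e4
    · obtain ⟨u', hu', rfl⟩ := hh.symm ▸ hu
      rw [LinearEquiv.coe_coe]
      have e3 := hiso u' x
      have e4 := e u' hu'
      have e5 : (h : V ≃ₗ[F] V) u' = u' + d u' := by rw [hd, dev_apply]; abel
      rw [e5, polar_add_left]
      linear_combination e3 - e4
  -- the fundamental form on `S`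
  let ψ : V → V → F := fun x y => polar Q (d x) y
  obtain ⟨C, hC⟩ := Submodule.exists_isCompl S
  let π : V →ₗ[F] S := Submodule.projectionOnto S C hC
  let ψ' : V → V → F := fun x y => polar Q (d (π x)) (π y)
  have hψ' : IsHerm (RingHom.id F) ψ' := by
    refine ⟨fun u v w => ?_, fun c u v => ?_, fun u v => ?_, fun _ => rfl⟩
    · simp [ψ', polar_add_left]
    · simp [ψ', polar_smul_left]
    · have e := hiso (π u) (π v)
      have e' : polar Q (d (π u)) (d (π v)) = 0 := singular_polar hU (π u).2 (π v).2
      rw [e', add_zero, CharTwo.add_eq_zero, polar_comm Q (π u : V)] at e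
      exact e.symm
  have hπ : ∀ x ∈ S, (π x : V) = x := fun x hx => by
    have := Submodule.projectionOnto_apply_left hC ⟨x, hx⟩
    exact congrArg Subtype.val this
  have halt : ∀ x ∈ S, ψ' x x = 0 := by
    intro x hx
    show polar Q (d (π x)) (π x) = 0
    rw [hπ x hx, polar_comm, hd, Cfsg.Agent.Lib.Forms.polar_self_dev h.2, hU _ hx, neg_zero]
  have hdUS : P S = U.map d := by
    rw [hSP]
    exact LinearMap.BilinForm.orthogonal_orthogonal hBnd hrefl _
  have hRmem : ∀ x, x ∈ R ↔ x ∈ S ∧ ∀ y ∈ S, ψ' x y = 0 := by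
    intro x
    constructor
    · intro hx
      have hxS : x ∈ S := by
        obtain ⟨u, hu, e⟩ := hx
        show d x ∈ U
        exact e ▸ hdU u hu
      refine ⟨hxS, fun y hy => ?_⟩
      show polar Q (d (π x)) (π y) = 0
      rw [hπ x hxS, hπ y hy, polar_comm]
      exact (hP S _).1 (hdUS.symm ▸ hx : d x ∈ P S) y hy
    · rintro ⟨hxS, hx⟩
      show d x ∈ U.map d
      rw [← hdUS, hP]
      intro y hy
      have := hx y hy
      simp only [ψ'] at this
      rw [hπ x hxS, hπ y hy] at this
      rw [polar_comm, this]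
  obtain ⟨k, hk⟩ := even_codim_radical hψ' S halt R hRmem
  -- dimensions
  have hSdim : finrank F S + finrank F (U.map d) = 2 * m := by
    rw [hSP, hPdim, hdim]
    have := (U.map d).finrank_le
    omega
  have hRsup : R = U ⊔ fixSpace (h : V ≃ₗ[F] V) := by
    rw [hR, Submodule.comap_map_eq]
    rfl
  have hrn := LinearMap.finrank_range_add_finrank_ker (d.domRestrict U)
  have hrange : LinearMap.range (d.domRestrict U) = U.map d := LinearMap.range_domRestrict U d
  have hker : finrank F (LinearMap.ker (d.domRestrict U)) =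
      finrank F (U ⊓ fixSpace (h : V ≃ₗ[F] V) : Submodule F V) := by
    have e : Submodule.map U.subtype (LinearMap.ker (d.domRestrict U)) =
        U ⊓ fixSpace (h : V ≃ₗ[F] V) := by
      ext x
      simp [fixSpace, ← hd, and_comm]
    rw [← e]
    exact (Submodule.equivMapOfInjective U.subtype U.subtype_injective _).finrank_eq
  rw [hrange, hker, hUm] at hrn
  have hsum := Submodule.finrank_sup_add_finrank_inf_eq U (fixSpace (h : V ≃ₗ[F] V))
  rw [← hRsup, hUm] at hsum
  have hfix := finrank_range_dev (h : V ≃ₗ[F] V)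
  have heven : Even (finrank F (LinearMap.range (dev (h : V ≃ₗ[F] V)))) := by
    rw [Nat.even_iff]
    omega
  rw [dickson]
  exact (ZMod.natCast_eq_zero_iff_even).2 heven

/-- The Dickson invariant of `g` is the codimension of `U ⊓ g U` in `U`. -/
theorem dickson_eq_codim (hQ : Nondeg Q) {m : ℕ} (hdim : finrank F V = 2 * m) (hm : m ≠ 2)
    {U : Submodule F V} (hU : ∀ x ∈ U, Q x = 0) (hUm : finrank F U = m) (g : orth Q) :
    dickson Q g + (finrank F (U ⊓ U.map (g : V ≃ₗ[F] V).toLinearMap : Submodule F V) : ZMod 2) =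
      (m : ZMod 2) := by
  have hn : finrank F V ≠ 4 := by omega
  induction hk : m - finrank F (U ⊓ U.map (g : V ≃ₗ[F] V).toLinearMap : Submodule F V)
    using Nat.strong_induction_on generalizing g with
  | _ k ih =>
    set W := U.map (g : V ≃ₗ[F] V).toLinearMap with hW
    have hWm : finrank F W = m := by rw [hW, LinearEquiv.finrank_map_eq, hUm]
    by_cases hWU : W = U
    · rw [hWU, inf_idem, hUm, dickson_stabiliser hQ hdim hU hUm g hWU, zero_add]
    -- a vector of `W` not orthogonal to `U`
    have hex : ∃ a ∈ U, ∃ b ∈ W, polar Q a b ≠ 0 := by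
      by_contra hall
      push Not at hall
      apply hWU
      refine Submodule.eq_of_le_of_finrank_eq (fun b hb => ?_) (hWm.trans hUm.symm)
      have hle : W ≤ LinearMap.BilinForm.orthogonal (polarBilin Q) U := fun x hx a ha => hall a ha x hx
      have hUle : U ≤ LinearMap.BilinForm.orthogonal (polarBilin Q) U :=
        fun x hx a ha => singular_polar hU ha hx
      rw [Submodule.eq_of_le_of_finrank_eq hUle (by
        rw [LinearMap.BilinForm.finrank_orthogonal hQ.polarBilin]; omega)]
      exact hle hb
    obtain ⟨a, ha, b, hb, hab⟩ := hex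
    have hWs : ∀ x ∈ W, Q x = 0 := by
      rintro _ ⟨x, hx, rfl⟩
      show Q ((g : V ≃ₗ[F] V) x) = 0
      rw [g.2]; exact hU x hx
    set v := a + b with hv
    have hQv : Q v = polar Q a b := by rw [hv, Q_add, hU a ha, hWs b hb]; ring
    have hQv0 : Q v ≠ 0 := by rwa [hQv]
    set r := refl Q v with hr
    set W' := W.map r.toLinearMap with hW'
    have hg' : U.map ((orefl Q v * g : orth Q) : V ≃ₗ[F] V).toLinearMap = W' := by
      rw [hW', hW, ← Submodule.map_comp]; rfl
    have hfixr : ∀ x, polar Q v x = 0 → r x = x := fun x hx =>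
      Cfsg.Agent.Lib.Forms.refl_fix Q hx
    have hrb : r b = a := by
      have h2 : polar Q v b = polar Q a b := by
        rw [hv, polar_add_left, Orth.polar_alt, add_zero]
      rw [hr, refl_apply, h2, hQv, inv_mul_cancel₀ hab, one_smul, hv]
      rw [sub_add_eq_sub_sub, sub_right_comm, sub_self, zero_sub, ← neg_one_smul F a,
        CharTwo.neg_eq, one_smul]
    have haW' : a ∈ U ⊓ W' := ⟨ha, b, hb, hrb⟩
    have hperp : ∀ x ∈ U ⊓ W, polar Q v x = 0 := by
      rintro x ⟨hxU, hxW⟩
      rw [hv, polar_add_left, singular_polar hU ha hxU, singular_polar hWs hb hxW, add_zero]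
    have hainf : a ∉ U ⊓ W := fun h => hab (by
      rw [polar_comm]; exact singular_polar hWs hb h.2)
    have hle : U ⊓ W ≤ U ⊓ W' := fun x hx => ⟨hx.1, x, hx.2, hfixr x (hperp x hx)⟩
    have hup : U ⊓ W' = (U ⊓ W) ⊔ Submodule.span F {a} := by
      refine le_antisymm (fun x hx => ?_)
        (sup_le hle ((Submodule.span_singleton_le_iff_mem _ _).2 haW'))
      have hva : polar Q v a = polar Q a b := by
        rw [hv, polar_add_left, Orth.polar_alt, zero_add, polar_comm]
      set c := polar Q v x / polar Q a b with hc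
      have hy : x - c • a ∈ U ⊓ W' := Submodule.sub_mem _ hx (Submodule.smul_mem _ _ haW')
      have hy0 : polar Q v (x - c • a) = 0 := by
        rw [polar_sub_right, polar_smul_right, hva, hc, smul_eq_mul, div_mul_cancel₀ _ hab, sub_self]
      obtain ⟨y, hyW, hye⟩ := hy.2
      have hye' : r y = x - c • a := hye
      have hyy : y = x - c • a := r.injective (hye'.trans (hfixr _ hy0).symm)
      rw [← sub_add_cancel x (c • a)]
      exact Submodule.add_mem_sup ⟨hy.1, hyy ▸ hyW⟩
        (Submodule.smul_mem _ _ (Submodule.mem_span_singleton_self a))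
    have hdimW' : finrank F (U ⊓ W' : Submodule F V) = finrank F (U ⊓ W : Submodule F V) + 1 := by
      rw [hup]; exact Submodule.finrank_sup_span_singleton hainf
    have hle2 : finrank F (U ⊓ W' : Submodule F V) ≤ m :=
      hUm ▸ Submodule.finrank_mono inf_le_left
    have := ih (m - finrank F (U ⊓ W' : Submodule F V)) (by omega) (orefl Q v * g) (by rw [hg'])
    rw [hg', hdimW', Nat.cast_add, Nat.cast_one] at this
    have hmul : dickson Q (orefl Q v * g) = 1 + dickson Q g := by
      have hm' := map_mul (dicksonHom hQ (Or.inr hn)) (orefl Q v) g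
      have hm'' : dickson Q (orefl Q v * g) = dickson Q (orefl Q v) + dickson Q g := hm'
      rw [hm'', dickson_orefl hQ hQv0]
    rw [hmul] at this
    have h2 : (1 : ZMod 2) + 1 = 0 := rfl
    linear_combination this - h2

end Cfsg.Agent.Lib.Char2Inv.OrthOmega
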