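import Cfsg.Agent.Lib.Char2Inv.OrthMatrix
import Cfsg.Agent.Lib.Char2Inv.OrthOmega

set_option autoImplicit false

/-!
Membership of involutions in `Ω` and their conjugacy classes in `Ω`, in characteristic two.
-/

namespace Cfsg.Agent.Lib.Char2Inv.OrthMatrixOmega

open QuadraticMap Module Cfsg.Agent.Lib.Char2Inv.OrthMatrix
open Cfsg.Agent.Lib.Forms (Nondeg orth isoOrth isoOrth_apply orefl refl refl_apply dickson dicksonHom
  dickson_orefl dev dev_apply)

variable {F : Type*} [Field F] [Finite F] [CharP F 2] {ι : Type} [Fintype ι] [DecidableEq ι]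
  (Q : QuadraticForm F (ι → F)) {f : (ι → F) → F} (hf : ∀ v, f v = Q v)
include hf

theorem dev_iso (t : ↥(Cfsg.isometryGroup F f)) : dev (isoOrth Q hf t).1 = nil t := by
  refine LinearMap.ext fun x => ?_
  rw [dev_apply, nil_apply, isoOrth_apply]

theorem mem_Omega_iff_dickson (hQ : Nondeg Q) (hn : Fintype.card ι ≠ 4)
    (t : ↥(Cfsg.isometryGroup F f)) : t ∈ Cfsg.Omega F f ↔ dickson Q (isoOrth Q hf t) = 0 := by
  rw [← OrthOmega.mem_commutator_iff hQ (by rwa [Module.finrank_fintype_fun_eq_card])]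
  have hmap : (commutator ↥(Cfsg.isometryGroup F f)).map (isoOrth Q hf).toMonoidHom =
      commutator (orth Q) := by
    rw [commutator_def, Subgroup.map_commutator, Subgroup.map_top_of_surjective _
      (isoOrth Q hf).surjective, ← commutator_def]
  rw [← hmap]
  exact (Subgroup.mem_map_iff_mem (f := (isoOrth Q hf).toMonoidHom) (isoOrth Q hf).injective).symm

theorem mem_Omega_iff (hQ : Nondeg Q) (hn : Fintype.card ι ≠ 4)
    (t : ↥(Cfsg.isometryGroup F f)) :
    t ∈ Cfsg.Omega F f ↔ Even (((t : GL ι F) : Matrix ι ι F) - 1).rank := by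
  rw [mem_Omega_iff_dickson Q hf hQ hn, dickson, dev_iso, ← ZMod.natCast_eq_zero_iff_even]
  rfl

omit hf in
/-- Outside the exceptional case the fixed space contains a non-singular vector. -/
theorem exists_nonsingular_fixed {m : ℕ} (hQ : Nondeg Q) (hdim : Fintype.card ι = 2 * m)
    {N : (ι → F) →ₗ[F] (ι → F)} (hN : ∀ x, N (N x) = 0)
    (h : ¬ (finrank F (LinearMap.range N) = m ∧ ∀ x, Q (N x) = 0)) :
    ∃ v, N v = 0 ∧ Q v ≠ 0 := by
  by_contra hall
  push Not at hall
  apply h
  have hle : LinearMap.range N ≤ LinearMap.ker N := by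
    rintro _ ⟨x, rfl⟩; exact hN x
  have h1 := Submodule.finrank_mono hle
  have h2 := Cfsg.Agent.Lib.Forms.two_mul_finrank_le hQ (LinearMap.ker N)
    (fun w hw => hall w (LinearMap.mem_ker.1 hw))
  have h3 := LinearMap.finrank_range_add_finrank_ker N
  rw [Module.finrank_fintype_fun_eq_card, hdim] at h2 h3
  exact ⟨by omega, fun x => hall _ (hN x)⟩

/-- A reflection in a fixed non-singular vector centralises an involution. -/
theorem exists_centralising_reflection (hQ : Nondeg Q) (hn : Fintype.card ι ≠ 4)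
    {t : ↥(Cfsg.isometryGroup F f)} (ht : orderOf t = 2) {v : ι → F} (hv : nil t v = 0)
    (hQv : Q v ≠ 0) :
    ∃ c : ↥(Cfsg.isometryGroup F f), c * t = t * c ∧ c ∉ Cfsg.Omega F f := by
  refine ⟨(isoOrth Q hf).symm (orefl Q v), ?_, ?_⟩
  · apply (isoOrth Q hf).injective
    rw [map_mul, map_mul, MulEquiv.apply_symm_apply]
    refine Subtype.ext (LinearEquiv.ext fun x => ?_)
    show refl Q v ((isoOrth Q hf t).1 x) = (isoOrth Q hf t).1 (refl Q v x)
    have hN := nil_isSqZero Q hf ht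
    have hvN : polar Q v (nil t x) = 0 := by rw [← hN.adj, hv, polar_zero_left]
    rw [isoOrth_apply, isoOrth_apply, refl_apply, refl_apply, mulVec_eq t x, mulVec_eq t,
      polar_add_right, hvN, add_zero, map_sub, map_smul, hv, smul_zero, sub_zero]
    abel
  · rw [mem_Omega_iff_dickson Q hf hQ hn, MulEquiv.apply_symm_apply, dickson_orefl hQ hQv]
    exact one_ne_zero

/-- With a centralising element outside `Ω`, conjugate involutions are conjugate under `Ω`. -/
theorem exists_Omega_conj (hQ : Nondeg Q) (hn : Fintype.card ι ≠ 4)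
    {t s c : ↥(Cfsg.isometryGroup F f)} (hct : c * t = t * c) (hc : c ∉ Cfsg.Omega F f)
    (hconj : IsConj t s) : ∃ g ∈ Cfsg.Omega F f, g * t * g⁻¹ = s := by
  obtain ⟨g, hg⟩ := isConj_iff.1 hconj
  by_cases hgO : g ∈ Cfsg.Omega F f
  · exact ⟨g, hgO, hg⟩
  refine ⟨g * c, ?_, ?_⟩
  · rw [mem_Omega_iff_dickson Q hf hQ hn] at hc hgO ⊢
    have hm : dickson Q (isoOrth Q hf g * isoOrth Q hf c) =
        dickson Q (isoOrth Q hf g) + dickson Q (isoOrth Q hf c) :=
      map_mul (dicksonHom hQ (Or.inr (by rwa [Module.finrank_fintype_fun_eq_card]))) _ _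
    rw [map_mul, hm]
    have key : ∀ a b : ZMod 2, a ≠ 0 → b ≠ 0 → a + b = 0 := by decide
    exact key _ _ hgO hc
  · rw [mul_inv_rev, mul_assoc g c t, hct, ← hg]
    group

theorem exists_Omega_conj_of_not_exceptional {m : ℕ} (hQ : Nondeg Q)
    (hdim : Fintype.card ι = 2 * m) (hm : m ≠ 2) {t s : ↥(Cfsg.isometryGroup F f)}
    (ht : orderOf t = 2) (hconj : IsConj t s)
    (h : ¬ ((((t : GL ι F) : Matrix ι ι F) - 1).rank = m ∧
      ∀ v, f (v + ((t : GL ι F) : Matrix ι ι F).mulVec v) = 0)) :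
    ∃ g ∈ Cfsg.Omega F f, g * t * g⁻¹ = s := by
  have hn : Fintype.card ι ≠ 4 := by omega
  have hN := nil_isSqZero Q hf ht
  obtain ⟨v, hv, hQv⟩ := exists_nonsingular_fixed Q hQ hdim hN.sq (N := nil t) (by
    refine fun e => h ⟨e.1, fun x => ?_⟩
    rw [hf, show x + ((t : GL ι F) : Matrix ι ι F).mulVec x = nil t x from funext fun i => by
      rw [nil_apply, Pi.add_apply, Pi.sub_apply, CharTwo.sub_eq_add, add_comm]]
    exact e.2 x)
  obtain ⟨c, hct, hc⟩ := exists_centralising_reflection Q hf hQ hn ht hv hQv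
  exact exists_Omega_conj Q hf hQ hn hct hc hconj

/-- The exceptional case. -/
theorem Omega_conj_iff {m : ℕ} (hQ : Nondeg Q) (hdim : Fintype.card ι = 2 * m) (hm : m ≠ 2)
    {t s : ↥(Cfsg.isometryGroup F f)} (ht : orderOf t = 2) (hconj : IsConj t s)
    (hr : finrank F (LinearMap.range (nil t)) = m) (hU : ∀ x, Q (nil t x) = 0) :
    (∃ g ∈ Cfsg.Omega F f, g * t * g⁻¹ = s) ↔
      Even (finrank F (LinearMap.range (nil t) ⊓ LinearMap.range (nil s) : Submodule F (ι → F))) := by
  have hn : Fintype.card ι ≠ 4 := by omega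
  have hfd : finrank F (ι → F) = 2 * m := by rwa [Module.finrank_fintype_fun_eq_card]
  have hN := nil_isSqZero Q hf ht
  have hmeven : Even m := by
    rw [← hr]
    exact Symplectic.even_rank_of_alt (Orth.polar_isHerm Q) (Orth.polar_alt Q) hN
      (Orth.nondegOn_top hQ) fun x => by
        rw [← Orth.Q_N (nil_isometry Q hf t), hU]
  set U := LinearMap.range (nil t) with hUdef
  have hUs : ∀ x ∈ U, Q x = 0 := by rintro _ ⟨x, rfl⟩; exact hU x
  have key : ∀ g : ↥(Cfsg.isometryGroup F f), g * t * g⁻¹ = s →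
      (g ∈ Cfsg.Omega F f ↔ Even (finrank F (U ⊓ LinearMap.range (nil s) : Submodule F (ι → F)))) := by
    intro g hg
    set G := isoOrth Q hf g with hG
    have hGt : ∀ x, (G : (ι → F) ≃ₗ[F] (ι → F)) (nil t x) =
        nil s ((G : (ι → F) ≃ₗ[F] (ι → F)) x) := by
      intro x
      have hgt : g * t = s * g := mul_inv_eq_iff_eq_mul.1 hg
      have e := congrArg (fun z : ↥(Cfsg.isometryGroup F f) =>
        ((z : GL ι F) : Matrix ι ι F).mulVec x) hgt
      simp only [Subgroup.coe_mul, Units.val_mul, ← Matrix.mulVec_mulVec] at e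
      rw [hG, isoOrth_apply, isoOrth_apply, nil_apply, nil_apply, Matrix.mulVec_sub, e]
    have hmap : U.map (G : (ι → F) ≃ₗ[F] (ι → F)).toLinearMap = LinearMap.range (nil s) := by
      rw [hUdef, ← LinearMap.range_comp,
        show (G : (ι → F) ≃ₗ[F] (ι → F)).toLinearMap.comp (nil t) =
          (nil s).comp (G : (ι → F) ≃ₗ[F] (ι → F)).toLinearMap from LinearMap.ext hGt,
        LinearMap.range_comp_of_range_eq_top _ (G : (ι → F) ≃ₗ[F] (ι → F)).range]
    have hd := OrthOmega.dickson_eq_codim hQ hfd hm hUs hr G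
    rw [hmap, show (m : ZMod 2) = 0 from (ZMod.natCast_eq_zero_iff_even).2 hmeven] at hd
    rw [mem_Omega_iff_dickson Q hf hQ hn, ← ZMod.natCast_eq_zero_iff_even]
    constructor <;> intro e
    · rwa [e, zero_add] at hd
    · rwa [e, add_zero] at hd
  constructor
  · rintro ⟨g, hgO, hg⟩
    exact (key g hg).1 hgO
  · intro he
    obtain ⟨g, hg⟩ := isConj_iff.1 hconj
    exact ⟨g, (key g hg).2 he, hg⟩

omit hf

/-- The minus-type form has no totally singular subspace of half the dimension. -/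
theorem qMinus_singular_le {k : ℕ} {c d : F}
    (hcd : ∀ z₁ z₂ : F, z₁ ^ 2 + c * z₁ * z₂ + d * z₂ ^ 2 = 0 → z₁ = 0 ∧ z₂ = 0)
    (T : Submodule F ((Fin k ⊕ Fin k) ⊕ Fin 2 → F)) (hT : ∀ x ∈ T, qMinus k c d x = 0) :
    finrank F T ≤ k := by
  classical
  let j : (Fin k → F) →ₗ[F] ((Fin k ⊕ Fin k) ⊕ Fin 2 → F) :=
    { toFun := fun a => Sum.elim (Sum.elim a 0) 0
      map_add' := fun a b => by funext s; rcases s with (i | i) | i <;> simp
      map_smul' := fun r a => by funext s; rcases s with (i | i) | i <;> simp }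
  let W₀ := LinearMap.range j
  have hW₀ : ∀ x ∈ W₀, qMinus k c d x = 0 := by
    rintro _ ⟨a, rfl⟩
    rw [← qMinus_apply]
    simp [Cfsg.quadFormMinus, j]
  have hinj : Function.Injective j := fun a b h => funext fun i => congrFun h (Sum.inl (Sum.inl i))
  have hdimW : finrank F W₀ = k := by
    rw [LinearMap.finrank_range_of_inj hinj, Module.finrank_fintype_fun_eq_card, Fintype.card_fin]
  by_contra hlt
  push Not at hlt
  have hmax : ∀ W, W₀ ≤ W → (∀ w ∈ W, qMinus k c d w = 0) → W = W₀ := by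
    intro W hW hWs
    refine le_antisymm (fun x hx => ?_) hW
    have hy : ∀ i, x (Sum.inl (Sum.inr i)) = 0 := by
      intro i
      have h1 := Cfsg.Agent.Lib.Forms.singular_polar hWs (hW ⟨Pi.single i 1, rfl⟩) hx
      simp [polar, ← qMinus_apply, Cfsg.quadFormMinus, j, Pi.single_apply, add_mul,
        Finset.sum_add_distrib, add_assoc] at h1
      linear_combination h1
    have h0 := hWs x hx
    rw [← qMinus_apply] at h0
    simp [Cfsg.quadFormMinus, hy] at h0
    obtain ⟨hz1, hz2⟩ := hcd _ _ h0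
    refine ⟨fun i => x (Sum.inl (Sum.inl i)), ?_⟩
    funext s
    rcases s with (i | i) | i
    · rfl
    · exact (hy i).symm
    · fin_cases i
      · exact hz1.symm
      · exact hz2.symm
  have := Cfsg.Agent.Lib.Forms.finrank_eq_of_maximal (qMinus_nondeg k hcd) W₀ T hW₀ hT hmax
    (by omega)
  omega

end Cfsg.Agent.Lib.Char2Inv.OrthMatrixOmega
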