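import Cfsg.Agent.Lib.Char2Inv.Normal
import Cfsg.Prelude.Def_ClassicalGeometry

set_option autoImplicit false

/-!
Involutions of symplectic groups over finite fields of characteristic two: normal forms, conjugacy.
-/

namespace Cfsg.Agent.Lib.Char2Inv.Symplectic

open Cfsg.Agent.Lib.Char2Inv.Forms Cfsg.Agent.Lib.Char2Inv.Normal

variable {F : Type*} [Field F] [Finite F] [CharP F 2] {V : Type*} [AddCommGroup V] [Module F V]
  [FiniteDimensional F V] {B : V → V → F} {N : V →ₗ[F] V}

theorem norm_surj (c : F) (_ : (RingHom.id F) c = c) : ∃ d, d * (RingHom.id F) d = c := by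
  obtain ⟨d, hd⟩ := FiniteField.isSquare_of_char_two (ringChar.eq_iff.2 inferInstance) c
  exact ⟨d, hd.symm⟩

/-- The normal form when the twisted form is alternating. -/
theorem exists_nf_alt (hB : IsHerm (RingHom.id F) B) (halt : ∀ v, B v v = 0) (hN : IsSqZero B N)
    (hnd : NondegOn B (⊤ : Submodule F V)) (h : ∀ v, B v (N v) = 0) :
    ∃ (k l : ℕ) (w : Fin k ⊕ Fin k → V) (y : Fin l ⊕ Fin l → V),
      NF B N Sum.swap Sum.swap w y := by
  obtain ⟨W, hW, hWN⟩ := exists_complement hB hN hnd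
  obtain ⟨k, w, hw⟩ := exists_symplectic_frame (twist_isHerm hB hN) W hW (fun x _ => h x)
  obtain ⟨w', hl, ho⟩ := (lift_of_frame hB hN hWN hw).exists_orth hB hN (fun _ => 0)
    (fun i => by simp [halt])
  obtain ⟨Y, hY, _, _, hmk⟩ := exists_fixed_part hB hN hnd hl ho
  obtain ⟨l, y, hy⟩ := exists_symplectic_frame hB Y hY (fun x _ => halt x)
  exact ⟨k, l, w', y, hmk _ _ _ hy⟩

/-- The normal form when the twisted form is not alternating. -/
theorem exists_nf_odd (hB : IsHerm (RingHom.id F) B) (halt : ∀ v, B v v = 0) (hN : IsSqZero B N)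
    (hnd : NondegOn B (⊤ : Submodule F V)) (h : ∃ v, B v (N v) ≠ 0) :
    ∃ (k l : ℕ) (w : Fin k → V) (y : Fin l ⊕ Fin l → V),
      NF B N id Sum.swap w y := by
  obtain ⟨W, hW, hWN⟩ := exists_complement hB hN hnd
  obtain ⟨v, hv⟩ := h
  obtain ⟨z, hz, _, hzv⟩ := hWN v
  obtain ⟨k, w, hw⟩ := exists_orthonormal_frame (twist_isHerm hB hN) norm_surj W hW
    (fun _ => ⟨z, hz, by rw [← (hzv v).2]; exact hv⟩)
  obtain ⟨w', hl, ho⟩ := (lift_of_frame hB hN hWN hw).exists_orth hB hN (fun _ => 0)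
    (fun i => by simp [halt])
  obtain ⟨Y, hY, _, _, hmk⟩ := exists_fixed_part hB hN hnd hl ho
  obtain ⟨l, y, hy⟩ := exists_symplectic_frame hB Y hY (fun x _ => halt x)
  exact ⟨k, l, w', y, hmk _ _ _ hy⟩

theorem even_rank_of_alt (hB : IsHerm (RingHom.id F) B) (halt : ∀ v, B v v = 0)
    (hN : IsSqZero B N) (hnd : NondegOn B (⊤ : Submodule F V)) (h : ∀ v, B v (N v) = 0) :
    Even (Module.finrank F (LinearMap.range N)) := by
  obtain ⟨k, l, w, y, hnf⟩ := exists_nf_alt hB halt hN hnd h
  rw [hnf.finrank_range hB hN, Fintype.card_sum, Fintype.card_fin]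
  exact ⟨k, rfl⟩

/-- Same rank and same type give conjugacy. -/
theorem exists_conj (hB : IsHerm (RingHom.id F) B) (halt : ∀ v, B v v = 0)
    (hnd : NondegOn B (⊤ : Submodule F V)) {N' : V →ₗ[F] V} (hN : IsSqZero B N)
    (hN' : IsSqZero B N')
    (hr : Module.finrank F (LinearMap.range N) = Module.finrank F (LinearMap.range N'))
    (ht : (∀ v, B v (N v) = 0) ↔ ∀ v, B v (N' v) = 0) :
    ∃ g : V ≃ₗ[F] V, (∀ x z, B (g x) (g z) = B x z) ∧ ∀ x, g (N x) = N' (g x) := by
  by_cases h : ∀ v, B v (N v) = 0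
  · obtain ⟨k, l, w, y, hnf⟩ := exists_nf_alt hB halt hN hnd h
    obtain ⟨k', l', w', y', hnf'⟩ := exists_nf_alt hB halt hN' hnd (ht.1 h)
    rw [hnf.finrank_range hB hN, hnf'.finrank_range hB hN', Fintype.card_sum, Fintype.card_sum,
      Fintype.card_fin, Fintype.card_fin] at hr
    obtain rfl : k = k' := by omega
    have hd := (hnf.finrank_eq hB).symm.trans (hnf'.finrank_eq hB)
    simp only [Fintype.card_sum, Fintype.card_fin] at hd
    obtain rfl : l = l' := by omega
    exact hnf.conj hB hN hN' hnf'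
  · have h' : ¬ ∀ v, B v (N' v) = 0 := fun e => h (ht.2 e)
    obtain ⟨k, l, w, y, hnf⟩ := exists_nf_odd hB halt hN hnd (not_forall.1 h)
    obtain ⟨k', l', w', y', hnf'⟩ := exists_nf_odd hB halt hN' hnd (not_forall.1 h')
    rw [hnf.finrank_range hB hN, hnf'.finrank_range hB hN', Fintype.card_fin,
      Fintype.card_fin] at hr
    obtain rfl : k = k' := hr
    have hd := (hnf.finrank_eq hB).symm.trans (hnf'.finrank_eq hB)
    simp only [Fintype.card_sum, Fintype.card_fin] at hd
    obtain rfl : l = l' := by omega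
    exact hnf.conj hB hN hN' hnf'

/-! ### The standard form on `F ^ (2m)` -/

variable {m : ℕ}

theorem sympForm_isHerm : IsHerm (RingHom.id F) (Cfsg.sympForm m F) where
  add_left u v w := by simp [Cfsg.sympForm, add_dotProduct]
  smul_left c u v := by simp [Cfsg.sympForm]
  symm u v := by
    simp only [Cfsg.sympForm, RingHom.id_apply]
    rw [dotProduct_comm, ← Matrix.vecMul_transpose, ← Matrix.dotProduct_mulVec, Matrix.J_transpose,
      Matrix.neg_mulVec, dotProduct_neg, CharTwo.neg_eq]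
  invol _ := rfl

theorem sympForm_self (v : Fin m ⊕ Fin m → F) : Cfsg.sympForm m F v v = 0 := by
  simp [Cfsg.sympForm, Matrix.J, Matrix.mulVec, dotProduct, Matrix.fromBlocks, Fintype.sum_sum_type,
    Matrix.one_apply, mul_comm, CharTwo.add_self_eq_zero, CharTwo.neg_eq]

theorem sympForm_nondeg : NondegOn (Cfsg.sympForm m F) (⊤ : Submodule F (Fin m ⊕ Fin m → F)) := by
  intro x _ h
  have hx : Matrix.vecMul x (Matrix.J (Fin m) F) = 0 := by
    funext i
    have := h (Pi.single i 1) trivial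
    rwa [Cfsg.sympForm, Matrix.dotProduct_mulVec, dotProduct_single, mul_one] at this
  have hJ : IsUnit (Matrix.J (Fin m) F) :=
    (Matrix.isUnit_iff_isUnit_det _).2 (Matrix.isUnit_det_J (Fin m) F)
  exact Matrix.vecMul_injective_of_isUnit hJ (hx.trans (Matrix.zero_vecMul _).symm)

theorem preserves_iff (A : Matrix (Fin m ⊕ Fin m) (Fin m ⊕ Fin m) F) :
    (∀ u v, Cfsg.sympForm m F (A.mulVec u) (A.mulVec v) = Cfsg.sympForm m F u v) ↔
      A ∈ Matrix.symplecticGroup (Fin m) F := by
  have key : ∀ u v, Cfsg.sympForm m F (A.mulVec u) (A.mulVec v) =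
      dotProduct u ((A.transpose * Matrix.J (Fin m) F * A).mulVec v) := by
    intro u v
    simp only [Cfsg.sympForm]
    rw [← Matrix.vecMul_transpose A u, ← Matrix.dotProduct_mulVec, Matrix.mulVec_mulVec,
      Matrix.mulVec_mulVec]
  rw [SymplecticGroup.mem_iff']
  constructor
  · intro h
    ext i j
    have := h (Pi.single i 1) (Pi.single j 1)
    rw [key, Cfsg.sympForm] at this
    simpa [Matrix.mulVec_single_one, single_one_dotProduct] using this
  · intro h u v
    rw [key, h]
    rfl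

theorem sqZero_of_involution {A : Matrix (Fin m ⊕ Fin m) (Fin m ⊕ Fin m) F}
    (hA : A ∈ Matrix.symplecticGroup (Fin m) F) (h2 : A * A = 1) :
    IsSqZero (Cfsg.sympForm m F) (A - 1).mulVecLin := by
  have hB := sympForm_isHerm (F := F) (m := m)
  refine ⟨fun x => ?_, fun u v => ?_⟩
  · rw [Matrix.mulVecLin_apply, Matrix.mulVecLin_apply, Matrix.mulVec_mulVec,
      show (A - 1) * (A - 1) = 0 by
        simp [sub_mul, mul_sub, h2]
        ext i j
        simp only [Matrix.sub_apply, Matrix.zero_apply]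
        linear_combination ((1 : Matrix (Fin m ⊕ Fin m) (Fin m ⊕ Fin m) F) i j - A i j) *
          (CharP.cast_eq_zero F 2), Matrix.zero_mulVec]
  · have h := (preserves_iff A).2 hA (A.mulVec u) v
    rw [Matrix.mulVec_mulVec, h2, Matrix.one_mulVec] at h
    simp only [Matrix.mulVecLin_apply, Matrix.sub_mulVec, Matrix.one_mulVec]
    simp only [sub_eq_add_neg]
    rw [hB.add_left, hB.add_right, ← neg_one_smul F u, ← neg_one_smul F v, hB.smul_left,
      hB.smul_right, ← h]
    simp

theorem twist_eq (A : Matrix (Fin m ⊕ Fin m) (Fin m ⊕ Fin m) F) (v : Fin m ⊕ Fin m → F) :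
    Cfsg.sympForm m F v ((A - 1).mulVecLin v) = Cfsg.sympForm m F v (A.mulVec v) := by
  have hB := sympForm_isHerm (F := F) (m := m)
  rw [Matrix.mulVecLin_apply, Matrix.sub_mulVec, Matrix.one_mulVec, sub_eq_add_neg,
    ← neg_one_smul F v, hB.add_right, hB.smul_right, sympForm_self]
  simp

theorem card_eq_top_iff [Fintype F] (A : Matrix (Fin m ⊕ Fin m) (Fin m ⊕ Fin m) F) :
    Nat.card {v : Fin m ⊕ Fin m → F // Cfsg.sympForm m F v (A.mulVec v) = 0} =
      Fintype.card F ^ (2 * m) ↔ ∀ v, Cfsg.sympForm m F v ((A - 1).mulVecLin v) = 0 := by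
  classical
  have hc : Fintype.card (Fin m ⊕ Fin m → F) = Fintype.card F ^ (2 * m) := by
    simp [two_mul]
  simp only [twist_eq]
  rw [Nat.card_eq_fintype_card, ← hc]
  constructor
  · intro h v
    by_contra hv
    exact (Fintype.card_subtype_lt (p := fun v => Cfsg.sympForm m F v (A.mulVec v) = 0) hv).ne h
  · intro h
    exact Fintype.card_congr (Equiv.subtypeUnivEquiv h)

theorem card_dichotomy [Fintype F] {A : Matrix (Fin m ⊕ Fin m) (Fin m ⊕ Fin m) F}
    (hA : A ∈ Matrix.symplecticGroup (Fin m) F) (h2 : A * A = 1) :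
    Nat.card {v : Fin m ⊕ Fin m → F // Cfsg.sympForm m F v (A.mulVec v) = 0} =
        Fintype.card F ^ (2 * m) ∨
      Nat.card {v : Fin m ⊕ Fin m → F // Cfsg.sympForm m F v (A.mulVec v) = 0} * Fintype.card F =
        Fintype.card F ^ (2 * m) := by
  classical
  by_cases h : ∀ v, Cfsg.sympForm m F v ((A - 1).mulVecLin v) = 0
  · exact Or.inl ((card_eq_top_iff A).2 h)
  obtain ⟨v₀, hv₀⟩ := not_forall.1 h
  rw [twist_eq] at hv₀
  have hB := sympForm_isHerm (F := F) (m := m)
  have hcross : ∀ u v, Cfsg.sympForm m F u (A.mulVec v) = Cfsg.sympForm m F v (A.mulVec u) := by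
    intro u v
    have h := (preserves_iff A).2 hA u (A.mulVec v)
    rw [Matrix.mulVec_mulVec, h2, Matrix.one_mulVec] at h
    rw [← h]
    exact hB.symm _ _
  let φ : (Fin m ⊕ Fin m → F) →+ F :=
    { toFun := fun v => Cfsg.sympForm m F v (A.mulVec v)
      map_zero' := hB.zero_left _
      map_add' := fun u v => by
        simp only [Matrix.mulVec_add, hB.add_left, hB.add_right, hcross u v]
        linear_combination (Cfsg.sympForm m F v (A.mulVec u)) * (CharP.cast_eq_zero F 2) }
  have hsurj : Function.Surjective φ := by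
    intro c
    obtain ⟨d, hd⟩ := norm_surj (c / Cfsg.sympForm m F v₀ (A.mulVec v₀)) rfl
    refine ⟨d • v₀, ?_⟩
    show Cfsg.sympForm m F (d • v₀) (A.mulVec (d • v₀)) = c
    rw [Matrix.mulVec_smul, hB.smul_left, hB.smul_right, ← mul_assoc, hd, div_mul_cancel₀ _ hv₀]
  right
  have key := AddSubgroup.card_eq_card_quotient_mul_card_addSubgroup φ.ker
  rw [Nat.card_congr (QuotientAddGroup.quotientKerEquivOfSurjective φ hsurj).toEquiv,
    Nat.card_eq_fintype_card, Nat.card_eq_fintype_card] at key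
  rw [mul_comm, show Fintype.card F ^ (2 * m) = Fintype.card (Fin m ⊕ Fin m → F) by
    simp [two_mul], key]
  rfl

end Cfsg.Agent.Lib.Char2Inv.Symplectic
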