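import Cfsg.Agent.Lib.Char2Inv.Normal
import Cfsg.Prelude.Def_Classical

set_option autoImplicit false

/-!
Involutions of unitary groups over finite fields of characteristic two.
-/

namespace Cfsg.Agent.Lib.Char2Inv.Unitary

open Cfsg.Agent.Lib.Char2Inv.Forms Cfsg.Agent.Lib.Char2Inv.Normal

section Field

variable {F : Type*} [Field F] [Fintype F] [CharP F 2]

theorem sq_inj {x y : F} (h : x * x = y * y) : x = y := by
  have h0 : (x - y) * (x - y) = 0 := by
    linear_combination h + (y * y - x * y) * (CharP.cast_eq_zero F 2)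
  exact sub_eq_zero.1 (mul_self_eq_zero.1 h0)

theorem exists_frobenius {q : ℕ} (hF : Fintype.card F = q ^ 2) :
    ∃ σ : F →+* F, (∀ x, σ x = x ^ q) ∧ (∀ x, σ (σ x) = x) ∧ ∃ x, σ x ≠ x := by
  classical
  obtain ⟨f, _, hf⟩ := FiniteField.card F 2
  have hdvd : q ∣ 2 ^ (f : ℕ) := hf ▸ hF ▸ dvd_pow_self q (by norm_num)
  obtain ⟨j, _, rfl⟩ := (Nat.dvd_prime_pow Nat.prime_two).1 hdvd
  refine ⟨iterateFrobenius F 2 j, iterateFrobenius_def 2 j, fun x => ?_, ?_⟩
  · rw [iterateFrobenius_def, iterateFrobenius_def, ← pow_mul, ← pow_two, ← hF,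
      FiniteField.pow_card]
  · by_contra h
    push Not at h
    simp only [iterateFrobenius_def] at h
    have hj : 1 < 2 ^ j := by
      rcases Nat.eq_zero_or_pos j with rfl | hj
      · simp at hF; exact absurd hF Fintype.one_lt_card.ne'
      · exact Nat.one_lt_two_pow hj.ne'
    have hle : Fintype.card F ≤ (Polynomial.X ^ (2 ^ j) - Polynomial.X : Polynomial F).natDegree := by
      rw [← Finset.card_univ]
      refine Polynomial.card_le_degree_of_subset_roots fun x _ => ?_
      rw [Polynomial.mem_roots (FiniteField.X_pow_card_sub_X_ne_zero F hj)]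
      simp [h x]
    rw [FiniteField.X_pow_card_sub_X_natDegree_eq F hj, hF] at hle
    nlinarith

variable {σ : F →+* F} (hσ : ∀ x, σ (σ x) = x)
include hσ

theorem norm_surj (c : F) (hc : σ c = c) : ∃ d, d * σ d = c := by
  obtain ⟨d, hd⟩ := FiniteField.isSquare_of_char_two (ringChar.eq_iff.2 inferInstance) c
  refine ⟨d, ?_⟩
  have : σ d = d := sq_inj (by rw [← map_mul, ← hd, hc])
  rw [this, ← hd]

theorem trace_surj (hne : ∃ x, σ x ≠ x) (c : F) (hc : σ c = c) : ∃ t, t + σ t = c := by
  obtain ⟨x, hx⟩ := hne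
  have he : x + σ x ≠ 0 := fun h => hx (CharTwo.add_eq_zero.1 h).symm
  have hef : σ (x + σ x) = x + σ x := by rw [map_add, hσ, add_comm]
  refine ⟨c / (x + σ x) * x, ?_⟩
  rw [map_mul, map_div₀, hc, hef, ← mul_add, div_mul_cancel₀ _ he]

end Field

variable {F : Type*} [Field F] [Fintype F] [CharP F 2] {V : Type*} [AddCommGroup V] [Module F V]
  [FiniteDimensional F V] {σ : F →+* F} {B : V → V → F} {N : V →ₗ[F] V}

theorem exists_anisotropic (hB : IsHerm σ B) (hne : ∃ x, σ x ≠ x) {W : Submodule F V}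
    (hW : NondegOn B W) (h : W ≠ ⊥) : ∃ x ∈ W, B x x ≠ 0 := by
  by_contra hall
  push Not at hall
  obtain ⟨x, hx, hx0⟩ := Submodule.exists_mem_ne_zero_of_ne_bot h
  obtain ⟨y, hy, hxy, hyx⟩ := exists_pair hB W hW hx hx0
  obtain ⟨c, hc⟩ := hne
  have := hall (c • x + y) (W.add_mem (W.smul_mem _ hx) hy)
  rw [hB.add_left, hB.add_right, hB.add_right, hB.smul_left, hB.smul_left, hB.smul_right,
    hB.smul_right, hall x hx, hall y hy, hxy, hyx] at this
  simp only [mul_zero, mul_one, zero_add, add_zero] at this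
  exact hc (CharTwo.add_eq_zero.1 this).symm

theorem exists_nf (hB : IsHerm σ B) (hne : ∃ x, σ x ≠ x) (hN : IsSqZero B N)
    (hnd : NondegOn B (⊤ : Submodule F V)) :
    ∃ (k l : ℕ) (w : Fin k → V) (y : Fin l → V), NF B N id id w y := by
  obtain ⟨W, hW, hWN⟩ := exists_complement hB hN hnd
  have hT := twist_isHerm hB hN
  obtain ⟨k, w, hw⟩ := exists_orthonormal_frame hT (norm_surj hB.invol) W hW
    (exists_anisotropic hT hne hW)
  choose t ht using fun i => trace_surj hB.invol hne (B (w i) (w i)) (hB.symm _ _).symm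
  obtain ⟨w', hl, ho⟩ := (lift_of_frame hB hN hWN hw).exists_orth hB hN t ht
  obtain ⟨Y, hY, _, _, hmk⟩ := exists_fixed_part hB hN hnd hl ho
  obtain ⟨l, y, hy⟩ := exists_orthonormal_frame hB (norm_surj hB.invol) Y hY
    (exists_anisotropic hB hne hY)
  exact ⟨k, l, w', y, hmk _ _ _ hy⟩

theorem det_mul_conj {ι : Type*} [Fintype ι] [DecidableEq ι] {π : ι → ι} {e : ι → V}
    (hB : IsHerm σ B) (h : Frame B ⊤ π e) (hπ : π = id) (g : V →ₗ[F] V)
    (hg : ∀ x z, B (g x) (g z) = B x z) :
    LinearMap.det g * σ (LinearMap.det g) = 1 := by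
  subst hπ
  set M := LinearMap.toMatrix (h.basis hB) (h.basis hB) g with hM
  have hcoord : ∀ i j, M i j = B (g (e j)) (e i) := by
    intro i j
    have h1 := (h.basis hB).sum_repr (g (h.basis hB j))
    simp only [h.basis_apply] at h1
    conv_rhs => rw [← h1]
    rw [hM, LinearMap.toMatrix_apply, h.basis_apply]
    exact (h.coeff hB (fun i => (h.basis hB).repr (g (e j)) i) i).symm
  have hmat : M.transpose * M.map σ = 1 := by
    ext a b
    rw [Matrix.mul_apply, Matrix.one_apply]
    have hab := hg (e a) (e b)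
    rw [h.gram] at hab
    conv at hab =>
      lhs
      rw [h.expand (g (e a)) trivial, hB.sum_left]
    simp only [id_eq, hB.smul_left] at hab
    simp only [Matrix.transpose_apply, Matrix.map_apply, hcoord, ← hB.symm]
    rw [hab]
    simp [eq_comm]
  have := congrArg Matrix.det hmat
  rwa [Matrix.det_mul, Matrix.det_transpose, Matrix.det_one, ← RingHom.mapMatrix_apply,
    ← RingHom.map_det, LinearMap.det_toMatrix] at this

/-- Conjugacy by an isometry of determinant one. -/
theorem exists_conj (hB : IsHerm σ B) (hne : ∃ x, σ x ≠ x)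
    (hnd : NondegOn B (⊤ : Submodule F V)) {N' : V →ₗ[F] V} (hN : IsSqZero B N)
    (hN' : IsSqZero B N')
    (hr : Module.finrank F (LinearMap.range N) = Module.finrank F (LinearMap.range N'))
    (hpos : 0 < Module.finrank F (LinearMap.range N)) :
    ∃ g : V ≃ₗ[F] V, LinearMap.det g.toLinearMap = 1 ∧ (∀ x z, B (g x) (g z) = B x z) ∧
      ∀ x, g (N x) = N' (g x) := by
  classical
  obtain ⟨k, l, w, y, hnf⟩ := exists_nf hB hne hN hnd
  obtain ⟨k', l', w', y', hnf'⟩ := exists_nf hB hne hN' hnd
  rw [hnf.finrank_range hB hN, Fintype.card_fin] at hr hpos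
  rw [hnf'.finrank_range hB hN', Fintype.card_fin] at hr
  subst hr
  have hd := (hnf.finrank_eq hB).symm.trans (hnf'.finrank_eq hB)
  simp only [Fintype.card_fin] at hd
  obtain rfl : l = l' := by omega
  obtain ⟨g₀, hiso₀, hcomm₀⟩ := hnf.conj hB hN hN' hnf'
  set d := LinearMap.det g₀.toLinearMap with hddef
  have hd0 : d ≠ 0 := g₀.isUnit_det'.ne_zero
  have hdnorm : d * σ d = 1 := by
    -- the space has an orthonormal frame
    obtain ⟨n, e, he⟩ := exists_orthonormal_frame hB (norm_surj hB.invol) ⊤ hnd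
      (exists_anisotropic hB hne hnd)
    exact det_mul_conj hB he rfl _ hiso₀
  obtain ⟨c, hc⟩ := FiniteField.isSquare_of_char_two (ringChar.eq_iff.2 inferInstance) d⁻¹
  have hcnorm : c * σ c = 1 := sq_inj (by
    have : σ c * σ c = σ d⁻¹ := by rw [← map_mul, hc]
    calc c * σ c * (c * σ c) = (c * c) * (σ c * σ c) := by ring
      _ = d⁻¹ * σ d⁻¹ := by rw [← hc, this]
      _ = 1 * 1 := by rw [map_inv₀, ← mul_inv, hdnorm, inv_one, one_mul])
  let c' : Fin k → F := fun i => if i = ⟨0, hpos⟩ then c else 1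
  have hc' : ∀ i, c' i * σ (c' i) = 1 := by
    intro i
    by_cases h : i = ⟨0, hpos⟩ <;> simp [c', h, hcnorm]
  -- rescale the first lift of the second normal form
  let C : (Fin k ⊕ Fin k) ⊕ Fin l → F := Sum.elim (Sum.elim c' c') (fun _ => 1)
  have hC : ∀ s, C s * σ (C (shape id id s)) = 1 := by
    rintro ((i | i) | j) <;> simp [C, shape, hc']
  have hfam : ∀ s, family N' (fun i => c' i • w' i) y' s = C s • family N' w' y' s := by
    rintro ((i | i) | j) <;> simp [family, C]
  have hnf'' : NF B N' id id (fun i => c' i • w' i) y' := by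
    refine ⟨⟨hnf'.frame.invol, fun _ => trivial, fun s t => ?_, fun x _ => ?_⟩, hnf'.ker⟩
    · rw [hfam, hfam, hB.smul_left, hB.smul_right, hnf'.frame.gram]
      split_ifs with h
      · rw [h, mul_one, hC]
      · simp
    · conv_lhs => rw [hnf'.frame.expand x trivial]
      refine Finset.sum_congr rfl fun s _ => ?_
      rw [hfam, hfam, hB.smul_right, smul_smul]
      congr 1
      calc B x (family N' w' y' (shape id id s))
          = (C s * σ (C (shape id id s))) * B x (family N' w' y' (shape id id s)) := by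
            rw [hC, one_mul]
        _ = _ := by ring
  obtain ⟨h, hh, hisoh⟩ := hnf'.frame.exists_isometry hB hnf''.frame
  have hcomm : ∀ x, h (N' x) = N' (h x) := by
    suffices hh' : h.toLinearMap.comp N' = N'.comp h.toLinearMap from LinearMap.congr_fun hh'
    refine (hnf'.frame.basis hB).ext fun s => ?_
    rw [hnf'.frame.basis_apply]
    simp only [LinearMap.comp_apply, LinearEquiv.coe_coe, hh]
    rcases s with (i | i) | j
    · exact hh (Sum.inl (Sum.inr i))
    · simp [family, hN'.sq]
    · simp [family, hnf'.ker]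
  have hdeth : LinearMap.det h.toLinearMap = d⁻¹ := by
    rw [← LinearMap.det_toMatrix (hnf'.frame.basis hB)]
    have : LinearMap.toMatrix (hnf'.frame.basis hB) (hnf'.frame.basis hB) h.toLinearMap =
        Matrix.diagonal C := by
      ext s t
      rw [LinearMap.toMatrix_apply, LinearEquiv.coe_coe, hnf'.frame.basis_apply, hh, hfam,
        ← hnf'.frame.basis_apply hB, map_smul, Module.Basis.repr_self]
      by_cases hst : s = t <;> simp [hst, Matrix.diagonal_apply, Finsupp.single_apply, eq_comm]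
    rw [this, Matrix.det_diagonal, Fintype.prod_sum_type, Fintype.prod_sum_type]
    simp [C, c', hc]
  refine ⟨g₀.trans h, ?_, fun x z => ?_, fun x => ?_⟩
  · show LinearMap.det (h.toLinearMap.comp g₀.toLinearMap) = 1
    rw [LinearMap.det_comp, hdeth, ← hddef, inv_mul_cancel₀ hd0]
  · simp [hisoh, hiso₀]
  · simp [hcomm₀, hcomm]

end Cfsg.Agent.Lib.Char2Inv.Unitary
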